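import Groth.Agent.KVbLib.Rank
import Groth.Agent.DCohLib.SPerf

/-!
# The module supported on a clopen set
-/

set_option autoImplicit false
set_option backward.isDefEq.respectTransparency false
set_option linter.style.haveILetI false
set_option linter.unusedSectionVars false
set_option maxHeartbeats 1000000

universe u

open CategoryTheory CategoryTheory.Limits AlgebraicGeometry TopologicalSpace Opposite
open Groth.Agent.DCohLib Groth.Agent.PullbackMod

noncomputable section

namespace Groth.Agent.KVb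

variable {X : Scheme.{u}}

/-- A clopen set carries a finite locally free module of rank one on it and zero outside. -/
theorem exists_clopenMod (W : X.Opens) (hW : IsClosed (W : Set X)) :
    ∃ Z : X.Modules, FlatMod.IsFinLocFree Z ∧ (∀ x ∈ W, fibreRank Z x = 1) ∧ ∀ x, x ∉ W → fibreRank Z x = 0 := by
  classical
  let V : X.Opens := ⟨(W : Set X)ᶜ, hW.isOpen_compl⟩
  let Z : X.Modules := (Scheme.Modules.pushforward W.ι).obj (Coh.structureModule (↑W : Scheme.{u}))
  have e₁ : Nonempty ((Scheme.Modules.restrictFunctor W.ι).obj Z ≅ FlatMod.freeMod (↑W : Scheme.{u}) 1) :=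
    ⟨(asIso (Scheme.Modules.restrictAdjunction W.ι).counit).app _ ≪≫
      (coproductUniqueIso fun _ : Fin 1 => Coh.structureModule (↑W : Scheme.{u})).symm⟩
  have hz : IsZero ((Scheme.Modules.restrictFunctor V.ι).obj Z) := by
    refine (IsZero.iff_id_eq_zero _).2 (Scheme.Modules.hom_ext _ _ fun O => AddCommGrpCat.hom_ext
      (AddMonoidHom.ext fun t => ?_))
    have hO : W.ι ⁻¹ᵁ (V.ι ''ᵁ O) = ⊥ := by
      refine Opens.ext (Set.eq_empty_iff_forall_notMem.2 fun y hy => ?_)
      have hy' : W.ι y ∈ V := by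
        obtain ⟨z, -, hz⟩ := hy
        rw [← hz]
        exact z.2
      exact hy' y.2
    haveI : Subsingleton Γ((↑W : Scheme.{u}), W.ι ⁻¹ᵁ (V.ι ''ᵁ O)) := by
      rw [hO]
      exact CommRingCat.subsingleton_of_isTerminal (↑W : Scheme.{u}).sheaf.isTerminalOfEmpty
    exact @Subsingleton.elim Γ((↑W : Scheme.{u}), W.ι ⁻¹ᵁ (V.ι ''ᵁ O)) _ _ _
  have e₀ : Nonempty ((Scheme.Modules.restrictFunctor V.ι).obj Z ≅ FlatMod.freeMod (↑V : Scheme.{u}) 0) :=
    ⟨hz.iso ((IsZero.iff_id_eq_zero _).2 (Sigma.hom_ext _ _ fun i => i.elim0))⟩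
  have hf : FlatMod.IsFinLocFree Z := fun x => by
    by_cases hx : x ∈ W
    · exact ⟨W, 1, hx, e₁⟩
    · exact ⟨V, 0, hx, e₀⟩
  haveI := (isQCoh_and_isFP_of_isFinLocFree Z hf).1
  exact ⟨Z, hf, fun x hx => fibreRank_eq_of_freeAt Z (freeAt_of_restrict_iso Z e₁.some hx),
    fun x hx => fibreRank_eq_of_freeAt Z (freeAt_of_restrict_iso Z e₀.some hx)⟩

/-- Biproducts add ranks. -/
theorem fibreRank_biprod {E F : X.Modules} (hE : FlatMod.IsFinLocFree E) (hF : FlatMod.IsFinLocFree F) (x : X) :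
    fibreRank (E ⊞ F) x = fibreRank E x + fibreRank F x := by
  have hEF := isFinLocFree_biprod hE hF
  have hS : (ShortComplex.mk (biprod.inl : E ⟶ E ⊞ F) biprod.snd biprod.inl_snd).ShortExact :=
    (ShortComplex.Splitting.ofHasBinaryBiproduct E F).shortExact
  haveI := (isQCoh_and_isFP_of_isFinLocFree _ hEF).1
  exact fibreRank_eq_of_freeAt _ (freeAt_mid hS (isFinLocFree_freeAt hE _) (isFinLocFree_freeAt hF _))

theorem cl_biprod {E F : X.Modules} (hE : FlatMod.IsFinLocFree E) (hF : FlatMod.IsFinLocFree F) :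
    KRR.cl X (E ⊞ F) = KRR.cl X E + KRR.cl X F :=
  cl_add (ShortComplex.Splitting.ofHasBinaryBiproduct E F).shortExact hE (isFinLocFree_biprod hE hF) hF

/-- A module can be completed to one of constant rank by modules of rank at most one. -/
theorem exists_const_rank [CompactSpace X] {E : X.Modules} (hE : FlatMod.IsFinLocFree E) :
    ∃ (N : ℕ) (E' : X.Modules) (Z : Fin N → X.Modules), FlatMod.IsFinLocFreeOfRank N E' ∧
      (∀ k, FlatMod.IsFinLocFree (Z k) ∧ ∀ x, fibreRank (Z k) x ≤ 1) ∧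
      KRR.cl X E' = KRR.cl X E + ∑ k, KRR.cl X (Z k) := by
  haveI := (isQCoh_and_isFP_of_isFinLocFree E hE).1
  have hlc := isFinLocFree_isLocallyConstant E hE
  obtain ⟨N, hN⟩ := (hlc.range_finite).bddAbove
  have hcl : ∀ k : ℕ, ∃ Z : X.Modules, FlatMod.IsFinLocFree Z ∧
      (∀ x, fibreRank Z x = if fibreRank E x ≤ k then 1 else 0) := fun k => by
    let W : X.Opens := ⟨fibreRank E ⁻¹' Set.Iic k, hlc _⟩
    obtain ⟨Z, hZ, h1, h0⟩ := exists_clopenMod W
      (by rw [← isOpen_compl_iff]; exact hlc (Set.Iic k)ᶜ)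
    refine ⟨Z, hZ, fun x => ?_⟩
    split_ifs with hx
    · exact h1 x hx
    · exact h0 x hx
  choose Z hZ hrk using hcl
  have key : ∀ n : ℕ, ∃ F : X.Modules, FlatMod.IsFinLocFree F ∧
      (∀ x, fibreRank F x = fibreRank E x + (n - fibreRank E x)) ∧
      KRR.cl X F = KRR.cl X E + ∑ k : Fin n, KRR.cl X (Z k) := by
    intro n
    induction n with
    | zero => exact ⟨E, hE, fun x => by simp, by simp⟩
    | succ n ih =>
      obtain ⟨F, hF, hr, hc⟩ := ih
      refine ⟨F ⊞ Z n, isFinLocFree_biprod hF (hZ n), fun x => ?_, ?_⟩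
      · rw [fibreRank_biprod hF (hZ n), hr, hrk]
        split_ifs <;> omega
      · rw [cl_biprod hF (hZ n), hc, Fin.sum_univ_castSucc, Fin.val_last, add_assoc]
        rfl
  obtain ⟨F, hF, hr, hc⟩ := key N
  refine ⟨N, F, fun k => Z k, (isFinLocFreeOfRank_iff hF N).2 fun x => ?_, fun k => ⟨hZ k, fun x => ?_⟩, hc⟩
  · have := hN ⟨x, rfl⟩
    rw [hr]; omega
  · rw [hrk]; split_ifs <;> omega

end Groth.Agent.KVb
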