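import Groth.Agent.KVbLib.PullHom
import Groth.Agent.LamR.Basic

/-!
# The relation of the tautological class of a projective bundle
-/

set_option autoImplicit false
set_option backward.isDefEq.respectTransparency false
set_option linter.style.haveILetI false
set_option linter.unusedSectionVars false

universe v u

open CategoryTheory CategoryTheory.Limits AlgebraicGeometry LambdaRing
open Groth.Agent.DCohLib Groth.Agent.PullbackMod

noncomputable section

namespace Groth.Agent.KVb

theorem alt_sum_add_line {K : Type v} [CommRing K] [LambdaOps K] (f l : K) (hl : ∀ j : ℕ, 2 ≤ j → LambdaOps.lam j l = 0)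
    (n : ℕ) : ∑ i ∈ Finset.range (n + 1), (-1 : K) ^ i * LambdaOps.lam i (f + l) * l ^ (n - i) =
      (-1 : K) ^ n * LambdaOps.lam n f := by
  induction n with
  | zero => simp [LambdaOps.lam_zero]
  | succ n ih =>
    have h1 : LambdaOps.lam (n + 1) (f + l) = LambdaOps.lam (n + 1) f + LambdaOps.lam n f * l := by
      rw [← LamR.coeff_lamSeries, LamR.lamSeries_add, LamR.lamSeries_thin hl, mul_add, mul_one, map_add,
        LamR.coeff_lamSeries, ← mul_assoc, PowerSeries.coeff_succ_mul_X, PowerSeries.coeff_mul_C, LamR.coeff_lamSeries]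
    have h2 : ∀ i ∈ Finset.range (n + 1), (-1 : K) ^ i * LambdaOps.lam i (f + l) * l ^ (n + 1 - i) =
        l * ((-1 : K) ^ i * LambdaOps.lam i (f + l) * l ^ (n - i)) := fun i hi => by
      have := Finset.mem_range.1 hi
      rw [show n + 1 - i = n - i + 1 by omega, pow_succ]
      ring
    rw [Finset.sum_range_succ, Finset.sum_congr rfl h2, ← Finset.mul_sum, ih, h1, Nat.sub_self, pow_zero, mul_one]
    ring

theorem tautological_relation {X P : Scheme.{u}} {π : P ⟶ X} {E : X.Modules} {O1 : P.Modules}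
    {q : (Scheme.Modules.pullback π).obj E ⟶ O1} (hPB : KRR.IsProjBundle π E O1 q) {r : ℕ}
    (hE : FlatMod.IsFinLocFreeOfRank (r + 1) E)
    {KX KP : Type v} [CommRing KX] [LambdaOps KX] [CommRing KP] [LambdaOps KP] {PX : PosStructure KX}
    {PP : PosStructure KP} {φX : SGA6.Kvb X →+ KX} {φP : SGA6.Kvb P →+ KP}
    (hKX : KRR.IsModel X KX PX φX) (hKP : KRR.IsModel P KP PP φP) {g : KX →+ KP} (hg : KRR.IsPull π φX φP g) :
    ∑ i ∈ Finset.range (r + 2), (-1 : KP) ^ i * g (LambdaOps.lam i (φX (KRR.cl X E))) *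
      φP (KRR.cl P O1) ^ (r + 1 - i) = 0 := by
  have hEf := isFinLocFree_of_rank hE
  have hE' := isFinLocFree_pullback π E hEf
  have hOf := isFinLocFree_of_rank hPB.invertible
  haveI := hPB.epi
  let S := ShortComplex.mk (kernel.ι q) q (kernel.condition q)
  haveI : Epi S.g := hPB.epi
  haveI : Mono S.f := inferInstanceAs (Mono (kernel.ι q))
  have hS : S.ShortExact := { exact := ShortComplex.exact_of_f_is_kernel _ (kernelIsKernel q) }
  have hF : FlatMod.IsFinLocFree S.X₁ := isFinLocFree_of_shortExact hS hE' hOf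
  haveI := (isQCoh_and_isFP_of_isFinLocFree E hEf).1
  haveI := (isQCoh_and_isFP_of_isFinLocFree _ hE').1
  haveI := (isQCoh_and_isFP_of_isFinLocFree _ hOf).1
  have hFr : ∀ x, fibreRank S.X₁ x = r := fun x => by
    have h := fibreRank_eq_of_freeAt _ (freeAt_mid hS (isFinLocFree_freeAt hF x) (isFinLocFree_freeAt hOf x))
    change fibreRank ((Scheme.Modules.pullback π).obj E) x = _ at h
    change _ = _ + fibreRank O1 x at h
    rw [fibreRank_pullback, (isFinLocFreeOfRank_iff hEf _).1 hE, (isFinLocFreeOfRank_iff hOf 1).1 hPB.invertible] at h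
    omega
  have hl : ∀ j : ℕ, 2 ≤ j → LambdaOps.lam j (φP (KRR.cl P O1)) = 0 := fun j hj =>
    PP.lam_eq_zero _ ((hKP.mem_pos_iff _).2 ⟨1, O1, le_rfl, hPB.invertible, rfl⟩) j
      (by rw [hKP.aug_cl 1 O1 hPB.invertible]; exact_mod_cast hj)
  have hsum : g (φX (KRR.cl X E)) = φP (KRR.cl P S.X₁) + φP (KRR.cl P O1) := by
    rw [hg E hEf, ← map_add]
    exact congrArg φP (cl_add hS hF hE' hOf)
  have hlam : ∀ i : ℕ, g (LambdaOps.lam i (φX (KRR.cl X E))) =
      LambdaOps.lam i (φP (KRR.cl P S.X₁) + φP (KRR.cl P O1)) := fun i => by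
    rw [← hsum]
    exact isLambdaHom_pull hKP hKX hg i _
  simp only [hlam]
  rw [alt_sum_add_line _ _ hl (r + 1)]
  suffices h : LambdaOps.lam (r + 1) (φP (KRR.cl P S.X₁)) = 0 by rw [h, mul_zero]
  rcases Nat.eq_zero_or_pos r with hr | hr
  · rw [cl_of_isZero (isZero_of_rank_zero hF fun x => (hFr x).trans hr), map_zero]
    exact LamR.lam_zero_right (Nat.succ_ne_zero r)
  · have h1 := (isFinLocFreeOfRank_iff hF r).2 hFr
    exact PP.lam_eq_zero _ ((hKP.mem_pos_iff _).2 ⟨r, S.X₁, hr, h1, rfl⟩) (r + 1)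
      (by rw [hKP.aug_cl r _ h1]; exact_mod_cast Nat.lt_succ_self r)

end Groth.Agent.KVb
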