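import Groth.Agent.KVbLib.ProjFilt
import Groth.Agent.KVbLib.TautRel
import Groth.Agent.KRRLam.ExtFilt

/-!
# The γ-filtration of a projective bundle
-/

set_option autoImplicit false
set_option backward.isDefEq.respectTransparency false
set_option linter.style.haveILetI false
set_option linter.unusedSectionVars false
set_option maxHeartbeats 1000000

universe v u

open CategoryTheory CategoryTheory.Limits AlgebraicGeometry LambdaRing Finset
open Groth.Agent.DCohLib
attribute [local instance] HasDerivedCategory.standard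

noncomputable section

namespace Groth.Agent.KVb

theorem gammaFiltration_le_twFil {X P : Scheme.{u}} {π : P ⟶ X}
    {KP : Type v} [CommRing KP] [LambdaOps KP] {PP : PosStructure KP} {φP : SGA6.Kvb P →+ KP}
    (hKP : KRR.IsModel P KP PP φP)
    {KX : Type v} [CommRing KX] [LambdaOps KX] {PX : PosStructure KX} {φX : SGA6.Kvb X →+ KX}
    (hKX : KRR.IsModel X KX PX φX) {g : KX →+ KP} (hg : KRR.IsPull π φX φP g)
    {ℓ : KP} (hℓ : PP.IsLine ℓ)
    (hgen : ∀ z : KP, z ∈ AddSubgroup.closure {w | ∃ (i : ℕ) (a : KX), w = g a * ℓ ^ i})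
    (k : ℕ) {z : KP} (hz : z ∈ gammaFiltration PP k) :
    z ∈ twFil PX (pullRing hKP hKX hg) (ℓ - 1) k := by
  let q := pullRing hKP hKX hg
  let x : KP := ℓ - 1
  have hx : (1 : KP) + x = ℓ := add_sub_cancel 1 ℓ
  let J := twFil PX q x
  have hJ0 : ∀ z : KP, z ∈ J 0 := fun z => by
    refine (AddSubgroup.closure_le (J 0)).2 ?_ (hgen z)
    rintro _ ⟨i, a, rfl⟩
    rw [← hx]
    exact mul_mem_twFil (m := 0) (k := 0) (map_mem_twFil (q := q) (LamR.mem_gammaFiltration_zero PX a))
      (one_add_pow_mem i)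
  have hJmul : ∀ {k : ℕ} {w : KP} (c : KP), w ∈ J k → c * w ∈ J k := fun {k w} c hw => by
    simpa using mul_mem_twFil (hJ0 c) hw
  have h1 := LamR.lam_one_pos PP
  have hline1 : ∀ i : ℕ, (1 + x) ^ i - 1 ∈ J 1 := fun i => by
    rw [← geom_sum_mul (1 + x) i, add_sub_cancel_left]
    exact hJmul _ mem_twFil_one
  have hlineL : ∀ i : ℕ, PP.IsLine ((1 + x) ^ i) := fun i => by
    rw [hx]; exact LamR.isLine_pow PP hℓ i
  let G : AddSubgroup KP :=
    { carrier := {z | ∀ s, gamma s z ∈ J s}
      zero_mem' := fun s => by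
        rcases s with - | s
        · exact hJ0 _
        · rw [LamR.gamma_zero_right (Nat.succ_ne_zero s)]; exact zero_mem _
      add_mem' := fun {u w} hu hw s => by
        rw [LamR.gamma_add]
        refine sum_mem fun i hi => ?_
        rw [mem_range] at hi
        exact twFil_anti (le_of_eq (by omega)) (mul_mem_twFil (hu i) (hw (s - i)))
      neg_mem' := fun {u} hu s => by
        induction s using Nat.strong_induction_on with
        | _ s ih =>
          rcases s with - | s
          · exact hJ0 _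
          have h := LamR.gamma_add (s + 1) u (-u)
          rw [add_neg_cancel, LamR.gamma_zero_right (Nat.succ_ne_zero s), sum_range_succ', LamR.gamma_zero, one_mul,
            Nat.sub_zero] at h
          rw [eq_neg_of_add_eq_zero_right h.symm]
          refine neg_mem (sum_mem fun i hi => ?_)
          rw [mem_range] at hi
          exact twFil_anti (le_of_eq (by omega)) (mul_mem_twFil (hu (i + 1)) (ih (s + 1 - (i + 1)) (by omega))) }
  have hline : ∀ i : ℕ, (1 + x) ^ i - 1 ∈ G := fun i s => by
    rcases s with - | - | s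
    · exact hJ0 _
    · rw [zero_add, LamR.gamma_one]; exact hline1 i
    · rw [LamR.gamma_thin_sub_one' h1 (LamR.lam_line PP (hlineL i))]; exact zero_mem _
  have hbase : ∀ (a : KX) (i : ℕ), PX.aug a = 0 → q a * (1 + x) ^ i ∈ G := by
    intro a i ha s
    rcases s with - | R
    · exact hJ0 _
    rw [gamma_mul_line' hKP (hlineL i)]
    refine sum_mem fun S hS => ?_
    rw [mem_range] at hS
    rw [mul_assoc]
    refine hJmul _ ?_
    rw [← LamR.map_gamma (isLambdaHom_pull hKP hKX hg)]
    refine twFil_anti (le_of_eq (show R + 1 = (S + 1) + (R - S) by omega))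
      (mul_mem_twFil (map_mem_twFil (LamR.gamma_mem PX ha)) (hJmul _ ?_))
    generalize R - S = d
    induction d with
    | zero => exact hJ0 _
    | succ d ih =>
      rw [pow_succ]
      refine mul_mem_twFil ih ?_
      simpa using neg_mem (hline1 i)
  have hall : ∀ z, PP.aug z = 0 → z ∈ G := by
    intro z hz
    suffices z - (PP.aug z : KP) ∈ G by rwa [hz, Int.cast_zero, sub_zero] at this
    clear hz
    have hz := hgen z
    induction hz using AddSubgroup.closure_induction with
    | zero => simpa using zero_mem G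
    | add a b _ _ ha hb =>
      have := add_mem ha hb
      rw [map_add, Int.cast_add]
      convert this using 1; ring
    | neg a _ ha =>
      have := neg_mem ha
      rw [map_neg, Int.cast_neg]
      convert this using 1; ring
    | mem w hw =>
      obtain ⟨i, a, rfl⟩ := hw
      rw [show g a * ℓ ^ i = q a * (1 + x) ^ i by rw [hx]; rfl]
      rw [map_mul, (hlineL i).2, mul_one, show PP.aug (q a) = PX.aug a from aug_pull hKP hKX hg a]
      have := add_mem (hbase (a - (PX.aug a : KX)) i (by rw [map_sub, map_intCast, Int.cast_id, sub_self]))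
        (zsmul_mem (hline i) (PX.aug a))
      convert this using 1
      rw [map_sub, map_intCast, zsmul_eq_mul]; ring
  show z ∈ J k
  rcases Nat.eq_zero_or_pos k with rfl | hk
  · exact hJ0 z
  rw [gammaFiltration, if_neg (by omega)] at hz
  refine (AddSubgroup.closure_le (J k)).2 ?_ hz
  rintro _ ⟨l, h1, h2, rfl⟩
  refine twFil_anti h2 ?_
  clear h2
  induction l with
  | nil => exact hJ0 _
  | cons p l ih =>
    simp only [List.map_cons, List.sum_cons, List.prod_cons]
    exact mul_mem_twFil (hall _ (h1 p List.mem_cons_self) p.1) (ih fun q hq => h1 q (List.mem_cons_of_mem _ hq))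

/-- Pull-back to a projective bundle is injective and detects the γ-filtration. -/
theorem injective_comap_bundle {X P : Scheme.{u}} {π : P ⟶ X} {E : X.Modules} {O1 : P.Modules}
    {q : (Scheme.Modules.pullback π).obj E ⟶ O1} (hPB : KRR.IsProjBundle π E O1 q) {r : ℕ}
    (hE : FlatMod.IsFinLocFreeOfRank (r + 1) E)
    {KX KP : Type v} [CommRing KX] [LambdaOps KX] [CommRing KP] [LambdaOps KP] {PX : PosStructure KX}
    {PP : PosStructure KP} {φX : SGA6.Kvb X →+ KX} {φP : SGA6.Kvb P →+ KP}
    (hKX : KRR.IsModel X KX PX φX) (hKP : KRR.IsModel P KP PP φP) {g : KX →+ KP} (hg : KRR.IsPull π φX φP g)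
    (hbij : Function.Bijective (fun a : Fin (r + 1) → KX => ∑ i : Fin (r + 1), g (a i) * φP (KRR.cl P O1) ^ (i : ℕ))) :
    Function.Injective g ∧ ∀ k : ℕ, (gammaFiltration PP k).comap g = gammaFiltration PX k := by
  classical
  set ℓ := φP (KRR.cl P O1) with hℓdef
  have hginj : Function.Injective g := fun a b hab => by
    have h : (fun i : Fin (r + 1) => if i = 0 then a else 0) = fun i => if i = 0 then b else 0 := hbij.1 (by
      show ∑ i : Fin (r + 1), g (if i = 0 then a else 0) * ℓ ^ (i : ℕ) =
        ∑ i : Fin (r + 1), g (if i = 0 then b else 0) * ℓ ^ (i : ℕ)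
      refine Finset.sum_congr rfl fun i _ => ?_
      split_ifs with hi
      · rw [hab]
      · rfl)
    simpa using congrFun h 0
  refine ⟨hginj, fun k => AddSubgroup.ext fun y => ⟨fun hy => ?_, fun hy => pull_gammaFiltration hKP hKX hg hy⟩⟩
  let e := φX (KRR.cl X E)
  have he : e ∈ PX.pos := (hKX.mem_pos_iff _).2 ⟨r + 1, E, by omega, hE, rfl⟩
  have hr : PX.aug e = r + 1 := by simpa using hKX.aug_cl (r + 1) E hE
  have hn : (PX.aug e).toNat = r + 1 := by omega
  have hℓ : PP.IsLine ℓ := ⟨(hKP.mem_pos_iff _).2 ⟨1, _, le_rfl, hPB.invertible, rfl⟩, by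
    simpa using hKP.aug_cl 1 _ hPB.invertible⟩
  let Q := pullRing hKP hKX hg
  have hrel : (KRR.extPoly PX e).eval₂ Q ℓ = 0 := by
    refine Eq.trans ?_ (tautological_relation hPB hE hKX hKP hg)
    rw [KRR.extPoly, hn, Polynomial.eval₂_finsetSum]
    refine Finset.sum_congr rfl fun i _ => ?_
    rw [Polynomial.eval₂_mul, Polynomial.eval₂_C, Polynomial.eval₂_pow, Polynomial.eval₂_X, map_mul, map_pow,
      map_neg, map_one]
    rfl
  let Φ : AdjoinRoot (KRR.extPoly PX e) →+* KP := AdjoinRoot.lift Q ℓ hrel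
  have hΦx : Φ (KRRLam.xx PX e) = ℓ - 1 := by
    rw [KRRLam.xx, map_sub, map_one, AdjoinRoot.lift_root]
  haveI := KRRLam.nontrivial_of_pos PX
  have hmonic := KRRLam.extPoly_monic PX e
  have hdeg : (KRR.extPoly PX e).natDegree = r + 1 := (KRRLam.extPoly_natDegree PX e).trans hn
  have hlow : ∀ p : Polynomial KX, p.natDegree ≤ r → Φ (AdjoinRoot.mk _ p) = 0 → p = 0 := by
    intro p hp h
    rw [AdjoinRoot.lift_mk, Polynomial.eval₂_eq_sum_range' Q (show p.natDegree < r + 1 by omega),
      Finset.sum_range] at h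
    have h' : (fun i : Fin (r + 1) => p.coeff i) = fun _ => 0 := hbij.1 (by
      show ∑ i : Fin (r + 1), g (p.coeff i) * ℓ ^ (i : ℕ) = ∑ i : Fin (r + 1), g 0 * ℓ ^ (i : ℕ)
      simp only [map_zero, zero_mul, Finset.sum_const_zero]
      exact h)
    refine Polynomial.ext fun i => ?_
    rw [Polynomial.coeff_zero]
    rcases Nat.lt_or_ge i (r + 1) with hi | hi
    · exact congrFun h' ⟨i, hi⟩
    · exact Polynomial.coeff_eq_zero_of_natDegree_lt (by omega)
  let H : AddSubgroup KP :=
    { carrier := {z | ∃ p : Polynomial KX, p.natDegree ≤ r ∧ p.eval 1 ∈ gammaFiltration PX k ∧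
        Φ (AdjoinRoot.mk _ p) = z}
      zero_mem' := ⟨0, by simp, by simp, by simp⟩
      add_mem' := fun {u w} ⟨p, hp, hp', hpz⟩ ⟨p₂, hp₂, hp₂', hpz₂⟩ =>
        ⟨p + p₂, (Polynomial.natDegree_add_le _ _).trans (by omega), by rw [Polynomial.eval_add]; exact add_mem hp' hp₂',
          by rw [map_add, map_add, hpz, hpz₂]⟩
      neg_mem' := fun {u} ⟨p, hp, hp', hpz⟩ =>
        ⟨-p, by rwa [Polynomial.natDegree_neg], by rw [Polynomial.eval_neg]; exact neg_mem hp',
          by rw [map_neg, map_neg, hpz]⟩ }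
  have hgen : ∀ z : KP, z ∈ AddSubgroup.closure {w | ∃ (i : ℕ) (a : KX), w = g a * ℓ ^ i} := fun z => by
    obtain ⟨a, rfl⟩ := hbij.2 z
    exact sum_mem fun i _ => AddSubgroup.subset_closure ⟨(i : ℕ), a i, rfl⟩
  have hmem : g y ∈ H := by
    refine (AddSubgroup.closure_le H).2 ?_ (gammaFiltration_le_twFil hKP hKX hg hℓ hgen k (AddSubgroup.mem_comap.1 hy))
    rintro _ ⟨i, a, ha, rfl⟩
    have hJ := KRRLam.mem_JJ' (r := r) he hr (i := i) ha
    have hle : KRRLam.JJ PX e r k ≤ H.comap Φ.toAddMonoidHom := KRRLam.JJ_le fun j hj b hb => by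
      refine ⟨Polynomial.C b * (Polynomial.X - 1) ^ j, ?_, ?_, ?_⟩
      · refine Polynomial.natDegree_C_mul_le _ _ |>.trans (Polynomial.natDegree_pow_le.trans ?_)
        refine le_trans (Nat.mul_le_mul_left j (Polynomial.natDegree_sub_le _ _)) ?_
        simp
        exact hj
      · rw [Polynomial.eval_mul, Polynomial.eval_C, Polynomial.eval_pow, Polynomial.eval_sub, Polynomial.eval_X,
          Polynomial.eval_one, sub_self]
        rcases j with - | j
        · simpa using hb
        · rw [zero_pow (Nat.succ_ne_zero j), mul_zero]; exact zero_mem _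
      · rw [map_mul, map_pow, map_sub, AdjoinRoot.mk_C, AdjoinRoot.mk_X, map_one]
        rfl
    have := hle hJ
    show Q a * (ℓ - 1) ^ i ∈ H
    rw [← hΦx, ← AdjoinRoot.lift_of (i := Q) hrel (x := a), ← map_pow, ← map_mul]
    exact this
  obtain ⟨p, hp, hp', hpz⟩ := hmem
  have h0 : p - Polynomial.C y = 0 := hlow _ ((Polynomial.natDegree_sub_le _ _).trans (by simp [hp])) (by
    rw [map_sub, map_sub, AdjoinRoot.mk_C, hpz, AdjoinRoot.lift_of]
    exact sub_self _)
  rw [sub_eq_zero.1 h0, Polynomial.eval_C] at hp'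
  exact hp'

end Groth.Agent.KVb
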