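import Groth.Agent.KVbLib.Ring
import Groth.Agent.DCohLib.StalkTensor
import Groth.Agent.DCohLib.SPerf
import Groth.Agent.DCohLib.Pullback
import Groth.Agent.DCohLib.PerfLocFree
import Groth.Agent.PullbackMod.FibreRank
import Groth.Agent.PullbackMod.LimFree
import Groth.Agent.AmpleEmb.Inverse
import Groth.Agent.VBLib.Point
import Mathlib.LinearAlgebra.ExteriorPower.Basis

/-!
# Ranks of exterior powers, sums and tensor products
-/

set_option autoImplicit false
set_option backward.isDefEq.respectTransparency false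
set_option linter.style.haveILetI false
set_option linter.unusedSectionVars false

universe u

open CategoryTheory CategoryTheory.Limits AlgebraicGeometry TopologicalSpace Opposite
open Groth.Agent.DCohLib Groth.Agent.PullbackMod
open scoped TensorProduct

noncomputable section

namespace Groth.Agent.KVb

variable {X : Scheme.{u}}

local notation "c" => KRR.cl X

theorem freeAt_of_finrank {M : X.Modules} {x : X} {n : ℕ} [Module.Free (X.presheaf.stalk x) (M.presheaf.stalk x)]
    [Module.Finite (X.presheaf.stalk x) (M.presheaf.stalk x)]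
    (h : Module.finrank (X.presheaf.stalk x) (M.presheaf.stalk x) = n) : FreeAt n M x :=
  ⟨(Module.finBasisOfFinrankEq _ _ h).equivFun⟩

theorem isFinLocFree_freeAt {M : X.Modules} (hM : FlatMod.IsFinLocFree M) (x : X) :
    FreeAt (fibreRank M x) M x := by
  haveI := (isQCoh_and_isFP_of_isFinLocFree M hM).1
  obtain ⟨U, n, hxU, ⟨i⟩⟩ := hM x
  have h := freeAt_of_restrict_iso M i hxU
  rwa [fibreRank_eq_of_freeAt M h]

theorem isFinLocFreeOfRank_iff {M : X.Modules} (hM : FlatMod.IsFinLocFree M) (n : ℕ) :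
    FlatMod.IsFinLocFreeOfRank n M ↔ ∀ x, fibreRank M x = n := by
  haveI := (isQCoh_and_isFP_of_isFinLocFree M hM).1
  rw [isFinLocFreeOfRank_iff_freeAt M (isQCoh_and_isFP_of_isFinLocFree M hM).2 n]
  exact ⟨fun h x => fibreRank_eq_of_freeAt M (h x), fun h x => h x ▸ isFinLocFree_freeAt hM x⟩

theorem isFinLocFree_of_rank {M : X.Modules} {n : ℕ} (hM : FlatMod.IsFinLocFreeOfRank n M) :
    FlatMod.IsFinLocFree M := fun x => let ⟨U, h⟩ := hM x; ⟨U, n, h⟩

theorem freeAt_tensor {M N : X.Modules} {x : X} {m n : ℕ} (hM : FreeAt m M x) (hN : FreeAt n N x) :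
    FreeAt (m * n) (ten M N) x := by
  obtain ⟨e⟩ := hM
  obtain ⟨e'⟩ := hN
  let d : (ten M N).presheaf.stalk x ≃ₗ[X.presheaf.stalk x]
      (Fin m → X.presheaf.stalk x) ⊗[X.presheaf.stalk x] (Fin n → X.presheaf.stalk x) :=
    (stalkTensor x M N).symm.trans (TensorProduct.congr e e')
  haveI := Module.Free.of_equiv d.symm
  haveI := Module.Finite.equiv d.symm
  exact freeAt_of_finrank (by rw [d.finrank_eq, Module.finrank_tensorProduct, Module.finrank_fin_fun, Module.finrank_fin_fun])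

theorem freeAt_mid {S : ShortComplex X.Modules} (hS : S.ShortExact) {x : X} {a b : ℕ}
    (h₁ : FreeAt a S.X₁ x) (h₃ : FreeAt b S.X₃ x) : FreeAt (a + b) S.X₂ x := by
  obtain ⟨e₁⟩ := h₁
  obtain ⟨e₃⟩ := h₃
  haveI := hS.mono_f
  haveI := hS.epi_g
  haveI := Module.Free.of_equiv e₁.symm
  haveI := Module.Free.of_equiv e₃.symm
  haveI := Module.Finite.equiv e₁.symm
  haveI := Module.Finite.equiv e₃.symm
  have hf : Function.Injective (stalkLin S.f x) := (mono_iff_stalk S.f).1 hS.mono_f x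
  have hg : Function.Surjective (stalkLin S.g x) := (epi_iff_stalk S.g).1 hS.epi_g x
  have hex : Function.Exact (stalkLin S.f x) (stalkLin S.g x) := exact_stalkLin S hS.exact x
  obtain ⟨l, hl⟩ := (stalkLin S.g x).exists_rightInverse_of_surjective (LinearMap.range_eq_top.2 hg)
  let d := (hex.splitSurjectiveEquiv hf ⟨l, hl⟩).1
  haveI := Module.Free.of_equiv d.symm
  haveI := Module.Finite.equiv d.symm
  exact freeAt_of_finrank (by
    rw [d.finrank_eq, Module.finrank_prod, e₁.finrank_eq, e₃.finrank_eq, Module.finrank_fin_fun, Module.finrank_fin_fun])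

/-- The sections over a small affine neighbourhood are free of the fibre rank. -/
theorem exists_free_sections {E : X.Modules} (hE : FlatMod.IsFinLocFree E) (x : X) :
    ∃ D : X.Opens, IsAffineOpen D ∧ x ∈ D ∧
      Nonempty (Γ(E, D) ≃ₗ[Γ(X, D)] (Fin (fibreRank E x) → Γ(X, D))) := by
  haveI := (isQCoh_and_isFP_of_isFinLocFree E hE).1
  obtain ⟨D, hD, n, hxD, ⟨e⟩⟩ := exists_tilde_iso E hE x
  let eΓ := (moduleSpecΓFunctor (R := Γ(X, D))).mapIso e ≪≫ ((tilde.toTildeΓNatIso (R := Γ(X, D))).app _).symm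
  let e' : Γ(E, D) ≃ₗ[Γ(X, D)] (Fin n → Γ(X, D)) :=
    ((QCohLib.topEquiv E hD).symm.trans eΓ.toLinearEquiv).trans
      ((Finsupp.linearEquivFunOnFinite _ _ _).trans
        (LinearEquiv.funCongrLeft _ _ (Equiv.ulift.{u, 0} (α := Fin n)).symm))
  refine ⟨D, hD, hxD, ?_⟩
  suffices h : fibreRank E x = n by rw [h]; exact ⟨e'⟩
  rw [fibreRank_eq E hD x hxD, ((e'.baseChange _ _).trans
    (TensorProduct.piScalarRight Γ(X, D) _ _ (Fin n))).finrank_eq, Module.finrank_fin_fun]

theorem freeAt_of_free_sections {M : X.Modules} [Coh.IsQCoh M] {D : X.Opens} (hD : IsAffineOpen D) {x : X}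
    (hx : x ∈ D) [Module.Free Γ(X, D) Γ(M, D)] [Module.Finite Γ(X, D) Γ(M, D)] {n : ℕ}
    (h : Module.finrank Γ(X, D) Γ(M, D) = n) : FreeAt n M x := by
  haveI : Nonempty D := ⟨⟨x, hx⟩⟩
  let e' : Γ(M, D) ≃ₗ[Γ(X, D)] (Fin n → Γ(X, D)) := (Module.finBasisOfFinrankEq _ _ h).equivFun
  letI := Module.compHom (M.presheaf.stalk x) (X.presheaf.germ D x hx).hom
  haveI := FlatLocus.isLocalizedModule_germL M hD x hx
  letI : Algebra Γ(X, D) (X.presheaf.stalk x) := TopCat.Presheaf.algebra_section_stalk X.presheaf ⟨x, hx⟩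
  haveI := hD.isLocalization_stalk ⟨x, hx⟩
  haveI : IsScalarTower Γ(X, D) (X.presheaf.stalk x) (M.presheaf.stalk x) := .of_algebraMap_smul fun _ _ => rfl
  exact ⟨(IsLocalizedModule.isBaseChange (hD.primeIdealOf ⟨x, hx⟩).asIdeal.primeCompl
      (X.presheaf.stalk x) (FlatLocus.germL M D x hx)).equiv.symm.trans
    ((e'.baseChange Γ(X, D) (X.presheaf.stalk x)).trans
      (TensorProduct.piScalarRight Γ(X, D) (X.presheaf.stalk x) (X.presheaf.stalk x) (Fin n)))⟩

/-- Exterior powers of finite locally free modules are finite locally free of binomial rank. -/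
theorem extPow_flf {i : ℕ} {E L : X.Modules} (hE : FlatMod.IsFinLocFree E) (hL : ExtPow.IsExtPow i E L) :
    FlatMod.IsFinLocFree L ∧ ∀ x, fibreRank L x = (fibreRank E x).choose i := by
  haveI := (isQCoh_and_isFP_of_isFinLocFree E hE).1
  haveI := ExtPowLib.isQCoh_of_isExtPow hL
  obtain ⟨φ, -⟩ := hL
  choose D hD hxD e using exists_free_sections hE
  have key : ∀ x, Module.Free Γ(X, D x) Γ(L, D x) ∧ Module.Finite Γ(X, D x) Γ(L, D x) ∧
      Module.finrank Γ(X, D x) Γ(L, D x) = (fibreRank E x).choose i := fun x => by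
    haveI : Nonempty (D x) := ⟨⟨x, hxD x⟩⟩
    haveI := Module.Free.of_equiv (e x).some.symm
    haveI := Module.Finite.equiv (e x).some.symm
    let ψ : Γ(L, D x) ≃ₗ[Γ(X, D x)] ↥(⋀[Γ(X, D x)]^i Γ(E, D x)) := φ ⟨D x, hD x⟩
    haveI := Module.Free.of_equiv ψ.symm
    haveI := Module.Finite.equiv ψ.symm
    refine ⟨inferInstance, inferInstance, ?_⟩
    rw [ψ.finrank_eq, exteriorPower.finrank_eq, (e x).some.finrank_eq, Module.finrank_fin_fun]
  have hfree : ∀ x, FreeAt ((fibreRank E x).choose i) L x := fun x => by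
    haveI := (key x).1
    haveI := (key x).2.1
    exact freeAt_of_free_sections (hD x) (hxD x) (key x).2.2
  have hFP : CohB1.IsFP L := isFP_of_finitePresentation L D hD
    (eq_top_iff.2 fun x _ => Opens.mem_iSup.2 ⟨x, hxD x⟩) fun x => by
      haveI := (key x).1
      haveI := (key x).2.1
      exact Module.finitePresentation_of_projective _ _
  exact ⟨(isFinLocFree_iff_freeAt L hFP).2 fun x => ⟨_, hfree x⟩, fun x => fibreRank_eq_of_freeAt L (hfree x)⟩

theorem hasExt (i : ℕ) (E : X.Modules) (hE : FlatMod.IsFinLocFree E) :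
    ∃ L : X.Modules, FlatMod.IsFinLocFree L ∧ ExtPow.IsExtPow i E L := by
  haveI := (isQCoh_and_isFP_of_isFinLocFree E hE).1
  obtain ⟨L, -, hL⟩ := ExtPowLib.exists_isExtPow E i
  exact ⟨L, (extPow_flf hE hL).1, hL⟩

theorem isZero_of_rank_zero {M : X.Modules} (hM : FlatMod.IsFinLocFree M) (h : ∀ x, fibreRank M x = 0) :
    IsZero M := by
  refine (IsZero.iff_id_eq_zero _).2 ((eq_zero_iff_stalk _).2 fun x => LinearMap.ext fun z => ?_)
  obtain ⟨e⟩ := h x ▸ isFinLocFree_freeAt hM x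
  haveI : Subsingleton (M.presheaf.stalk x) := e.toEquiv.subsingleton
  exact Subsingleton.elim _ _

theorem exists_cl_inverse {M : X.Modules} (hM : FlatMod.IsFinLocFree M) (h : ∀ x, fibreRank M x = 1) :
    ∃ N : X.Modules, FlatMod.IsFinLocFree N ∧ toKR (c M) * toKR (c N) = 1 := by
  obtain ⟨N, hN, ⟨e⟩⟩ := AmpleEmb.exists_isInverseOf
    (VBLib.isInvertible_of_rank ((isFinLocFreeOfRank_iff hM 1).2 h))
  have hNf := isFinLocFree_of_rank (CurveLib.isFinLocFreeOfRank_one hN)
  refine ⟨N, hNf, (mul_cl hM hNf).trans ((congrArg toKR ?_).trans toKR_one)⟩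
  exact cl_iso e

theorem exists_rkHom (x : X) : ∃ g : SGA6.Kvb X →+ ℤ,
    ∀ E, FlatMod.IsFinLocFree E → g (c E) = fibreRank E x :=
  RegLib.exists_lift (fun E => (fibreRank E x : ℤ)) fun {S} hS h₁ h₂ h₃ => by
    haveI := (isQCoh_and_isFP_of_isFinLocFree S.X₂ h₂).1
    show (fibreRank S.X₂ x : ℤ) = _
    rw [fibreRank_eq_of_freeAt S.X₂ (freeAt_mid hS (isFinLocFree_freeAt h₁ x) (isFinLocFree_freeAt h₃ x))]
    push_cast
    rfl

end Groth.Agent.KVb
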