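import Groth.Agent.KVbLib.Lam
import Groth.Agent.KVbLib.Rank
import Groth.Prelude.Def_KRR

/-!
# The model of the λ-ring K₀ of finite locally free modules
-/

set_option autoImplicit false
set_option backward.isDefEq.respectTransparency false
set_option linter.style.haveILetI false
set_option linter.unusedSectionVars false

universe u

open CategoryTheory CategoryTheory.Limits AlgebraicGeometry
open Groth.Agent.DCohLib Groth.Agent.PullbackMod

noncomputable section

namespace Groth.Agent.KVb

variable (X : Scheme.{u})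

instance : LambdaRing.LambdaOps (KR X) where
  lam k x := toKR (lamOp (hasExt (X := X)) k x)
  lam_zero x := (congrArg toKR (lamOp_zero (hasExt (X := X)) x)).trans toKR_one
  lam_one x := congrArg toKR (lamOp_one (hasExt (X := X)) x)
  lam_add k x y := lamOp_add (hasExt (X := X)) k x y

variable {X}

local notation "c" => KRR.cl X

theorem lam_cl {i : ℕ} {E L : X.Modules} (hE : FlatMod.IsFinLocFree E) (hL : ExtPow.IsExtPow i E L) :
    LambdaRing.LambdaOps.lam i (toKR (c E)) = toKR (c L) :=
  congrArg toKR (lamOp_cl (hasExt (X := X)) hE hL)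

variable [ConnectedSpace ↥X]

/-- A point of the scheme. -/
def base : X := Classical.arbitrary X

theorem fibreRank_const {E : X.Modules} (hE : FlatMod.IsFinLocFree E) (x : X) : fibreRank E x = fibreRank E base := by
  haveI := (isQCoh_and_isFP_of_isFinLocFree E hE).1
  exact (isFinLocFree_isLocallyConstant E hE).apply_eq_of_preconnectedSpace x base

theorem rank_of_flf {E : X.Modules} (hE : FlatMod.IsFinLocFree E) :
    FlatMod.IsFinLocFreeOfRank (fibreRank E base) E :=
  (isFinLocFreeOfRank_iff hE _).2 (fibreRank_const hE)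

theorem fibreRank_base_of_rank {E : X.Modules} {n : ℕ} (h : FlatMod.IsFinLocFreeOfRank n E) : fibreRank E base = n :=
  (isFinLocFreeOfRank_iff (isFinLocFree_of_rank h) n).1 h base

variable (X) in
/-- The rank. -/
def rkHom : SGA6.Kvb X →+ ℤ := (exists_rkHom (base (X := X))).choose

theorem rkHom_cl {E : X.Modules} (hE : FlatMod.IsFinLocFree E) : rkHom X (c E) = fibreRank E base :=
  (exists_rkHom (base (X := X))).choose_spec E hE

theorem fibreRank_one : fibreRank (Coh.structureModule X) base = 1 :=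
  fibreRank_base_of_rank (CurveLib.isFinLocFreeOfRank_one ParaFLib.isInvertible_structureModule)

theorem fibreRank_ten {E F : X.Modules} (hE : FlatMod.IsFinLocFree E) (hF : FlatMod.IsFinLocFree F) :
    fibreRank (ten E F) base = fibreRank E base * fibreRank F base := by
  haveI := (isQCoh_and_isFP_of_isFinLocFree _ (isFinLocFree_ten hE hF)).1
  exact fibreRank_eq_of_freeAt _ (freeAt_tensor (isFinLocFree_freeAt hE _) (isFinLocFree_freeAt hF _))

theorem rkHom_mul (x y : SGA6.Kvb X) : rkHom X (mulH x y) = rkHom X x * rkHom X y := by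
  have h : (AddMonoidHom.compHom (rkHom X)).comp (mulH (X := X)) =
      (AddMonoidHom.mul.comp (rkHom X)).compl₂ (rkHom X) := hom_ext fun E hE => hom_ext fun F hF => by
    show rkHom X (mulH (c E) (c F)) = rkHom X (c E) * rkHom X (c F)
    rw [mulH_cl hE hF, rkHom_cl (isFinLocFree_ten hE hF), rkHom_cl hE, rkHom_cl hF, fibreRank_ten hE hF]
    push_cast
    rfl
  exact DFunLike.congr_fun (DFunLike.congr_fun h x) y

variable (X) in
/-- The augmentation. -/
def augHom : KR X →+* ℤ where
  toFun x := rkHom X x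
  map_one' := by
    show rkHom X (c (Coh.structureModule X)) = 1
    rw [rkHom_cl isFinLocFree_one, fibreRank_one]
    rfl
  map_mul' := rkHom_mul
  map_zero' := map_zero (rkHom X)
  map_add' := map_add (rkHom X)

variable (X) in
/-- The classes of bundles of positive constant rank. -/
def posSet : Set (KR X) :=
  {x | ∃ (n : ℕ) (E : X.Modules), 1 ≤ n ∧ FlatMod.IsFinLocFreeOfRank n E ∧ toKR (c E) = x}

theorem mem_posSet {E : X.Modules} (hE : FlatMod.IsFinLocFree E) (h : 1 ≤ fibreRank E base) :
    toKR (c E) ∈ posSet X :=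
  ⟨_, E, h, rank_of_flf hE, rfl⟩

theorem one_mem_posSet : (1 : KR X) ∈ posSet X := by
  rw [← toKR_one]
  exact mem_posSet isFinLocFree_one fibreRank_one.ge

theorem add_cl {E F : X.Modules} (hE : FlatMod.IsFinLocFree E) (hF : FlatMod.IsFinLocFree F) :
    FlatMod.IsFinLocFree (E ⊞ F) ∧ toKR (c E) + toKR (c F) = toKR (c (E ⊞ F)) ∧
      fibreRank (E ⊞ F) base = fibreRank E base + fibreRank F base := by
  have hEF := isFinLocFree_biprod hE hF
  have hS : (ShortComplex.mk (biprod.inl : E ⟶ E ⊞ F) biprod.snd biprod.inl_snd).ShortExact :=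
    (ShortComplex.Splitting.ofHasBinaryBiproduct E F).shortExact
  have h := (congrArg toKR (cl_add hS hE hEF hF)).trans (map_add toKR _ _)
  refine ⟨hEF, h.symm, ?_⟩
  haveI := (isQCoh_and_isFP_of_isFinLocFree _ hEF).1
  exact fibreRank_eq_of_freeAt _ (freeAt_mid hS (isFinLocFree_freeAt hE _) (isFinLocFree_freeAt hF _))

theorem add_mem_posSet {e f : KR X} (he : e ∈ posSet X) (hf : f ∈ posSet X) : e + f ∈ posSet X := by
  obtain ⟨n, E, hn, hE, rfl⟩ := he
  obtain ⟨m, F, hm, hF, rfl⟩ := hf
  obtain ⟨h, h', hr⟩ := add_cl (isFinLocFree_of_rank hE) (isFinLocFree_of_rank hF)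
  rw [h']
  refine mem_posSet h ?_
  rw [hr, fibreRank_base_of_rank hE]
  omega

theorem exists_sub_posSet (x : KR X) : ∃ e f, e ∈ posSet X ∧ f ∈ posSet X ∧ x = e - f := by
  induction x using induction with
  | h0 => exact ⟨1, 1, one_mem_posSet, one_mem_posSet, (sub_self (1 : KR X)).symm⟩
  | hcl E hE =>
    obtain ⟨h, h', hr⟩ := add_cl hE (isFinLocFree_one (X := X))
    refine ⟨_, _, mem_posSet h ?_, one_mem_posSet, (add_sub_cancel_right (toKR (c E)) (1 : KR X)).symm.trans ?_⟩
    · rw [hr, fibreRank_one]; omega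
    · rw [← toKR_one, h']
  | hneg x h =>
    obtain ⟨e, f, he, hf, rfl⟩ := h
    exact ⟨f, e, hf, he, neg_sub e f⟩
  | hadd x y hx hy =>
    obtain ⟨e, f, he, hf, rfl⟩ := hx
    obtain ⟨e', f', he', hf', rfl⟩ := hy
    exact ⟨e + e', f + f', add_mem_posSet he he', add_mem_posSet hf hf', (add_sub_add_comm e e' f f').symm⟩

theorem augHom_cl {E : X.Modules} (hE : FlatMod.IsFinLocFree E) : augHom X (toKR (c E)) = fibreRank E base :=
  rkHom_cl hE

variable (X) in
/-- The positive structure of K₀. -/
def posStr : LambdaRing.PosStructure (KR X) where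
  aug := augHom X
  aug_surjective n := ⟨(n : KR X), map_intCast (augHom X) n⟩
  pos := posSet X
  add_mem _ _ := add_mem_posSet
  mul_mem := by
    rintro _ _ ⟨n, E, hn, hE, rfl⟩ ⟨m, F, hm, hF, rfl⟩
    rw [mul_cl (isFinLocFree_of_rank hE) (isFinLocFree_of_rank hF)]
    refine mem_posSet (isFinLocFree_ten (isFinLocFree_of_rank hE) (isFinLocFree_of_rank hF)) ?_
    rw [fibreRank_ten (isFinLocFree_of_rank hE) (isFinLocFree_of_rank hF), fibreRank_base_of_rank hE,
      fibreRank_base_of_rank hF]
    exact Nat.one_le_iff_ne_zero.2 (Nat.mul_ne_zero (by omega) (by omega))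
  natCast_mem n hn := by
    induction n with
    | zero => exact absurd hn (lt_irrefl 0)
    | succ n ih =>
      rcases Nat.eq_zero_or_pos n with rfl | h
      · rw [Nat.cast_one]; exact one_mem_posSet
      · rw [Nat.cast_succ]; exact add_mem_posSet (ih h) one_mem_posSet
  exists_sub := exists_sub_posSet
  aug_pos := by
    rintro _ ⟨n, E, hn, hE, rfl⟩
    rw [augHom_cl (isFinLocFree_of_rank hE), fibreRank_base_of_rank hE]
    exact_mod_cast hn
  lam_eq_zero := by
    rintro _ ⟨n, E, -, hE, rfl⟩ i hi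
    rw [augHom_cl (isFinLocFree_of_rank hE), fibreRank_base_of_rank hE] at hi
    obtain ⟨L, hL, hEL⟩ := hasExt i E (isFinLocFree_of_rank hE)
    rw [lam_cl (isFinLocFree_of_rank hE) hEL, cl_of_isZero (isZero_of_rank_zero hL fun x => ?_), map_zero]
    rw [(extPow_flf (isFinLocFree_of_rank hE) hEL).2 x, (isFinLocFreeOfRank_iff (isFinLocFree_of_rank hE) n).1 hE x]
    exact Nat.choose_eq_zero_of_lt (by exact_mod_cast hi)
  isUnit_lam := by
    rintro _ ⟨n, E, -, hE, rfl⟩
    rw [augHom_cl (isFinLocFree_of_rank hE), fibreRank_base_of_rank hE, Int.toNat_natCast]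
    obtain ⟨L, hL, hEL⟩ := hasExt n E (isFinLocFree_of_rank hE)
    rw [lam_cl (isFinLocFree_of_rank hE) hEL]
    obtain ⟨N, -, h⟩ := exists_cl_inverse hL fun x => by
      rw [(extPow_flf (isFinLocFree_of_rank hE) hEL).2 x,
        (isFinLocFreeOfRank_iff (isFinLocFree_of_rank hE) n).1 hE x, Nat.choose_self]
    exact IsUnit.of_mul_eq_one _ h

theorem isModel : KRR.IsModel X (KR X) (posStr X) toKR where
  bijective := toKR_bijective
  map_one := toKR_one
  map_mul _ _ hE hF := mul_cl hE hF
  map_lam _ _ _ hE _ hL := lam_cl hE hL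
  aug_cl n E hE := (augHom_cl (isFinLocFree_of_rank hE)).trans (congrArg Nat.cast (fibreRank_base_of_rank hE))
  mem_pos_iff _ := Iff.rfl

end Groth.Agent.KVb
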