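import Groth.Agent.KVbLib.PullHom
import Groth.Agent.KVbLib.Model
import Groth.Agent.LamR.Filt

/-!
# Comparison of models of the same scheme
-/

set_option autoImplicit false
set_option backward.isDefEq.respectTransparency false
set_option linter.style.haveILetI false
set_option linter.unusedSectionVars false

universe w v u

open CategoryTheory CategoryTheory.Limits AlgebraicGeometry LambdaRing
open Groth.Agent.DCohLib Groth.Agent.PullbackMod

noncomputable section

namespace Groth.Agent.KVb

variable {X : Scheme.{u}} {K : Type v} [CommRing K] [LambdaOps K] {P : PosStructure K} {φ : SGA6.Kvb X →+ K}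
  {L : Type w} [CommRing L] [LambdaOps L] {Q : PosStructure L} {χ : SGA6.Kvb X →+ L}

/-- Two models are isomorphic. -/
theorem exists_modelIso (hK : KRR.IsModel X K P φ) (hL : KRR.IsModel X L Q χ) :
    ∃ e : K ≃+* L, (∀ z, e (φ z) = χ z) ∧ (∀ x, Q.aug (e x) = P.aug x) ∧
      (∀ (i : ℕ) x, e (LambdaOps.lam i x) = LambdaOps.lam i (e x)) := by
  let a := (AddEquiv.ofBijective φ hK.bijective).symm.trans (AddEquiv.ofBijective χ hL.bijective)
  have ha : ∀ z, a (φ z) = χ z := fun z =>
    congrArg χ ((AddEquiv.ofBijective φ hK.bijective).symm_apply_apply z)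
  have hmul : ∀ x y, a (x * y) = a x * a y := by
    have h : (AddMonoidHom.compHom a.toAddMonoidHom).comp (AddMonoidHom.mul (R := K)) =
        (AddMonoidHom.mul.comp a.toAddMonoidHom).compl₂ a.toAddMonoidHom :=
      model_hom_ext hK fun E hE => model_hom_ext hK fun F hF => by
        show a (φ (KRR.cl X E) * φ (KRR.cl X F)) = a (φ (KRR.cl X E)) * a (φ (KRR.cl X F))
        rw [hK.map_mul E F hE hF, ha, ha, ha, hL.map_mul E F hE hF]
    exact fun x y => DFunLike.congr_fun (DFunLike.congr_fun h x) y
  let e : K ≃+* L := { a with map_mul' := hmul }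
  have haug : ∀ x, Q.aug (e x) = P.aug x := by
    intro x
    obtain ⟨u, u', hu, hu', rfl⟩ := P.exists_sub x
    have h : ∀ u ∈ P.pos, Q.aug (e u) = P.aug u := fun u hu => by
      obtain ⟨n, E, -, hE, rfl⟩ := (hK.mem_pos_iff u).1 hu
      exact (congrArg Q.aug (ha _)).trans ((hL.aug_cl n E hE).trans (hK.aug_cl n E hE).symm)
    rw [map_sub, map_sub, map_sub, h u hu, h u' hu']
  have hpos : ∀ u ∈ P.pos, PowerSeries.map (e : K →+* L) (lamSeries u) = lamSeries (e u) := by
    intro u hu
    obtain ⟨n, E, -, hE, rfl⟩ := (hK.mem_pos_iff u).1 hu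
    refine PowerSeries.ext fun k => ?_
    obtain ⟨M, hM, hEM⟩ := hasExt k E (isFinLocFree_of_rank hE)
    rw [PowerSeries.coeff_map, lamSeries, lamSeries, PowerSeries.coeff_mk, PowerSeries.coeff_mk,
      hK.map_lam k E M (isFinLocFree_of_rank hE) hM hEM]
    exact (ha _).trans ((hL.map_lam k E M (isFinLocFree_of_rank hE) hM hEM).symm.trans
      (congrArg (LambdaOps.lam k) (ha _).symm))
  refine ⟨e, ha, haug, fun i x => ?_⟩
  obtain ⟨u, u', hu, hu', rfl⟩ := P.exists_sub x
  have h : PowerSeries.map (e : K →+* L) (lamSeries (u - u')) = lamSeries (e (u - u')) := by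
    refine (LamR.isUnit_lamSeries (e u')).mul_right_cancel ?_
    rw [← LamR.lamSeries_add, ← map_add e, sub_add_cancel, ← hpos u hu, ← hpos u' hu', ← map_mul,
      ← LamR.lamSeries_add, sub_add_cancel]
  have hk := congrArg (PowerSeries.coeff i) h
  rw [PowerSeries.coeff_map, lamSeries, lamSeries, PowerSeries.coeff_mk, PowerSeries.coeff_mk] at hk
  exact hk

/-- A λ-map preserving augmentations preserves the γ-filtrations. -/
theorem map_gammaFiltration (e : K →+* L) (haug : ∀ x, Q.aug (e x) = P.aug x)
    (hlam : ∀ (i : ℕ) x, e (LambdaOps.lam i x) = LambdaOps.lam i (e x)) {k : ℕ} {y : K}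
    (hy : y ∈ gammaFiltration P k) : e y ∈ gammaFiltration Q k := by
  have hg : ∀ (i : ℕ) x, e (gamma i x) = gamma i (e x) := fun i x => by
    rcases i with - | i
    · simp [gamma]
    · simp only [gamma, if_neg (Nat.succ_ne_zero i), map_sum, map_mul, map_natCast]
      refine Finset.sum_congr rfl fun j _ => ?_
      split_ifs <;> simp [hlam]
  rcases eq_or_ne k 0 with hk | hk
  · subst hk; exact LamR.mem_gammaFiltration_zero Q _
  · rw [gammaFiltration, if_neg hk] at hy ⊢
    refine AddSubgroup.mem_comap.1 ((AddSubgroup.map_le_iff_le_comap (f := e.toAddMonoidHom)).1 ?_ hy)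
    rw [AddMonoidHom.map_closure]
    refine AddSubgroup.closure_mono ?_
    rintro _ ⟨_, ⟨l, h0, hl, rfl⟩, rfl⟩
    refine ⟨l.map fun p => (p.1, e p.2), ?_, ?_, ?_⟩
    · intro p hp
      obtain ⟨q, hq, rfl⟩ := List.mem_map.1 hp
      exact (haug q.2).trans (h0 q hq)
    · rw [List.map_map]; exact hl
    · show e _ = _
      rw [map_list_prod, List.map_map, List.map_map]
      exact congrArg List.prod (List.map_congr_left fun p _ => hg p.1 p.2)

end Groth.Agent.KVb
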