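import Groth.Agent.KVbLib.Pull
import Groth.Agent.KVbLib.Rank
import Groth.Agent.AmpleLib.Pullback
import Groth.Agent.LamR.Basic
import Groth.Prelude.Def_KRR

/-!
# Pull-back is a homomorphism of λ-rings with augmentation
-/

set_option autoImplicit false
set_option backward.isDefEq.respectTransparency false
set_option linter.style.haveILetI false
set_option linter.unusedSectionVars false

universe v u

open CategoryTheory CategoryTheory.Limits AlgebraicGeometry LambdaRing
open Groth.Agent.DCohLib Groth.Agent.PullbackMod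

noncomputable section

namespace Groth.Agent.KVb

variable {X Y : Scheme.{u}} {f : X ⟶ Y} {KX KY : Type v} [CommRing KX] [LambdaOps KX] [CommRing KY] [LambdaOps KY]
  {PX : PosStructure KX} {PY : PosStructure KY} {φX : SGA6.Kvb X →+ KX} {φY : SGA6.Kvb Y →+ KY} {g : KY →+ KX}
  (hX : KRR.IsModel X KX PX φX) (hY : KRR.IsModel Y KY PY φY) (hg : KRR.IsPull f φY φX g)

theorem model_hom_ext (hY : KRR.IsModel Y KY PY φY) {G : Type*} [AddCommGroup G] {a b : KY →+ G}
    (h : ∀ E, FlatMod.IsFinLocFree E → a (φY (KRR.cl Y E)) = b (φY (KRR.cl Y E))) : a = b := by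
  have : a.comp φY = b.comp φY := hom_ext h
  refine AddMonoidHom.ext fun y => ?_
  obtain ⟨z, rfl⟩ := hY.bijective.2 y
  exact DFunLike.congr_fun this z

include hX hY hg

theorem pull_one : g 1 = 1 := by
  rw [← hY.map_one, hg _ isFinLocFree_one, ← hX.map_one]
  exact congrArg φX (cl_iso (AmpleLib.pullO f))

theorem pull_mul (x y : KY) : g (x * y) = g x * g y := by
  have h : (AddMonoidHom.compHom g).comp (AddMonoidHom.mul (R := KY)) = (AddMonoidHom.mul.comp g).compl₂ g :=
    model_hom_ext hY fun E hE => model_hom_ext hY fun F hF => by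
      show g (φY (KRR.cl Y E) * φY (KRR.cl Y F)) = g (φY (KRR.cl Y E)) * g (φY (KRR.cl Y F))
      rw [hY.map_mul E F hE hF, hg _ (isFinLocFree_ten hE hF), hg E hE, hg F hF,
        hX.map_mul _ _ (isFinLocFree_pullback f E hE) (isFinLocFree_pullback f F hF)]
      exact congrArg φX (cl_iso (((pullTensorBiIsoSch f).app E).app F))
  exact DFunLike.congr_fun (DFunLike.congr_fun h x) y

/-- Pull-back as a ring map. -/
def pullRing : KY →+* KX where
  toFun := g
  map_one' := pull_one hX hY hg
  map_mul' := pull_mul hX hY hg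
  map_zero' := map_zero g
  map_add' := map_add g

theorem pull_lam_cl {E : Y.Modules} (hE : FlatMod.IsFinLocFree E) (i : ℕ) :
    g (LambdaOps.lam i (φY (KRR.cl Y E))) = LambdaOps.lam i (g (φY (KRR.cl Y E))) := by
  obtain ⟨L, hL, hEL⟩ := hasExt i E hE
  haveI := (isQCoh_and_isFP_of_isFinLocFree E hE).1
  haveI := (isQCoh_and_isFP_of_isFinLocFree L hL).1
  have hE' := isFinLocFree_pullback f E hE
  obtain ⟨L', hL', hEL'⟩ := hasExt i _ hE'
  obtain ⟨e⟩ := exists_pullIso f (ExtSeq.nonempty_EP hEL).some (ExtSeq.nonempty_EP hEL').some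
  rw [hY.map_lam i E L hE hL hEL, hg L hL, hg E hE, hX.map_lam i _ L' hE' hL' hEL']
  exact congrArg φX (cl_iso e)

theorem isLambdaHom_pull : IsLambdaHom (pullRing hX hY hg) := by
  have hpos : ∀ e ∈ PY.pos, PowerSeries.map (pullRing hX hY hg) (lamSeries e) = lamSeries (g e) := by
    intro e he
    obtain ⟨n, E, -, hE, rfl⟩ := (hY.mem_pos_iff e).1 he
    refine PowerSeries.ext fun k => ?_
    rw [PowerSeries.coeff_map, lamSeries, lamSeries, PowerSeries.coeff_mk, PowerSeries.coeff_mk]
    exact pull_lam_cl hX hY hg (isFinLocFree_of_rank hE) k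
  intro i x
  obtain ⟨e, e', he, he', rfl⟩ := PY.exists_sub x
  have h : PowerSeries.map (pullRing hX hY hg) (lamSeries (e - e')) = lamSeries (g (e - e')) := by
    refine (LamR.isUnit_lamSeries (g e')).mul_right_cancel ?_
    rw [← LamR.lamSeries_add, ← map_add g, sub_add_cancel, ← hpos e he, ← hpos e' he', ← map_mul,
      ← LamR.lamSeries_add, sub_add_cancel]
  have hk := congrArg (PowerSeries.coeff i) h
  rw [PowerSeries.coeff_map, lamSeries, lamSeries, PowerSeries.coeff_mk, PowerSeries.coeff_mk] at hk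
  exact hk

theorem aug_pull (x : KY) : PX.aug (g x) = PY.aug x := by
  obtain ⟨e, e', he, he', rfl⟩ := PY.exists_sub x
  have h : ∀ e ∈ PY.pos, PX.aug (g e) = PY.aug e := by
    intro e he
    obtain ⟨n, E, -, hE, rfl⟩ := (hY.mem_pos_iff e).1 he
    have hf := isFinLocFree_of_rank hE
    haveI := (isQCoh_and_isFP_of_isFinLocFree E hf).1
    rw [hg E hf, hY.aug_cl n E hE]
    refine hX.aug_cl n _ ((isFinLocFreeOfRank_iff (isFinLocFree_pullback f E hf) n).2 fun x => ?_)
    rw [fibreRank_pullback]
    exact (isFinLocFreeOfRank_iff hf n).1 hE _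
  rw [map_sub, map_sub, map_sub, h e he, h e' he']

theorem pull_gammaFiltration {k : ℕ} {y : KY} (hy : y ∈ gammaFiltration PY k) : g y ∈ gammaFiltration PX k := by
  rcases eq_or_ne k 0 with hk | hk
  · subst hk; exact LamR.mem_gammaFiltration_zero PX _
  · rw [gammaFiltration, if_neg hk] at hy ⊢
    refine AddSubgroup.mem_comap.1 ((AddSubgroup.map_le_iff_le_comap (f := g)).1 ?_ hy)
    rw [AddMonoidHom.map_closure]
    refine AddSubgroup.closure_mono ?_
    rintro _ ⟨_, ⟨l, h0, hl, rfl⟩, rfl⟩
    refine ⟨l.map fun p => (p.1, g p.2), ?_, ?_, ?_⟩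
    · intro p hp
      obtain ⟨q, hq, rfl⟩ := List.mem_map.1 hp
      exact (aug_pull hX hY hg q.2).trans (h0 q hq)
    · rw [List.map_map]; exact hl
    · show pullRing hX hY hg _ = _
      rw [map_list_prod, List.map_map, List.map_map]
      exact congrArg List.prod (List.map_congr_left fun p _ => LamR.map_gamma (isLambdaHom_pull hX hY hg) p.1 p.2)

end Groth.Agent.KVb
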