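import Groth.Agent.KVbLib.Twist
import Groth.Agent.KVbLib.Model
import Groth.Agent.KVbLib.PullHom
import Groth.Agent.LamR.Filt

/-!
# Exterior operations on a product with a line element
-/

set_option autoImplicit false
set_option backward.isDefEq.respectTransparency false
set_option linter.style.haveILetI false
set_option linter.unusedSectionVars false

universe v u

open CategoryTheory CategoryTheory.Limits AlgebraicGeometry LambdaRing Finset
open Groth.Agent.DCohLib Groth.Agent.PullbackMod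

noncomputable section

namespace Groth.Agent.KVb

section Alg

variable {K : Type v} [CommRing K] [LambdaOps K]

theorem gamma_mul_line (y L : K) (h : ∀ k, LambdaOps.lam k (y * L) = LambdaOps.lam k y * L ^ k) (R : ℕ) :
    gamma (R + 1) (y * L) =
      ∑ S ∈ range (R + 1), (R.choose S : K) * gamma (S + 1) y * (L ^ (S + 1) * (1 - L) ^ (R - S)) := by
  have hg : ∀ (z : K) (M : ℕ), gamma (M + 1) z = ∑ i ∈ range (M + 1), (M.choose i : K) * LambdaOps.lam (i + 1) z := by
    intro z M
    rw [gamma, if_neg (Nat.succ_ne_zero M), sum_range_succ' _ (M + 1)]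
    simp
  have hS : ∀ S ∈ range (R + 1), (R.choose S : K) * gamma (S + 1) y * (L ^ (S + 1) * (1 - L) ^ (R - S)) =
      ∑ i ∈ range (R + 1), (R.choose S * S.choose i : ℕ) * (L ^ S * (1 - L) ^ (R - S)) * (LambdaOps.lam (i + 1) y * L) := by
    intro S hS
    rw [mem_range] at hS
    rw [hg, mul_sum, sum_mul]
    refine (sum_subset (range_mono (by omega)) (fun i _ hi => ?_)).trans (sum_congr rfl fun i _ => by push_cast; ring)
    rw [mem_range] at hi
    rw [Nat.choose_eq_zero_of_lt (show S < i by omega)]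
    simp
  rw [sum_congr rfl hS, sum_comm, hg]
  refine sum_congr rfl fun i hi => ?_
  rw [mem_range] at hi
  obtain ⟨d, rfl⟩ : ∃ d, R = i + d := ⟨R - i, by omega⟩
  rw [← sum_mul, h]
  have key : ∑ S ∈ range (i + d + 1), ((i + d).choose S * S.choose i : ℕ) * (L ^ S * (1 - L) ^ (i + d - S)) =
      ((i + d).choose i : K) * L ^ i := by
    rw [show i + d + 1 = i + (d + 1) by omega, sum_range_add, sum_eq_zero (fun S hS => by
      rw [mem_range] at hS
      rw [Nat.choose_eq_zero_of_lt hS]; simp), zero_add]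
    have hb := add_pow L (1 - L) d
    rw [add_sub_cancel, one_pow] at hb
    conv_rhs => rw [← mul_one (((i + d).choose i : K) * L ^ i), hb, mul_sum]
    refine sum_congr rfl fun l hl => ?_
    rw [mem_range] at hl
    rw [Nat.choose_mul (Nat.le_add_right i l), Nat.add_sub_cancel_left i l,
      Nat.add_sub_cancel_left i d, show i + d - (i + l) = d - l by omega, pow_add]
    push_cast
    ring
  rw [key, pow_succ]
  ring

end Alg

section Model

variable {X : Scheme.{u}} {K : Type v} [CommRing K] [LambdaOps K] {P : PosStructure K} {φ : SGA6.Kvb X →+ K}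
  (hX : KRR.IsModel X K P φ)

include hX

theorem map_tensorPow {L : X.Modules} (hL : FlatMod.IsFinLocFree L) :
    ∀ k, FlatMod.IsFinLocFree (CohB1.tensorPow L k) ∧
      φ (KRR.cl X (CohB1.tensorPow L k)) = φ (KRR.cl X L) ^ k
  | 0 => ⟨isFinLocFree_one, by rw [pow_zero]; exact hX.map_one⟩
  | k + 1 => by
    obtain ⟨h1, h2⟩ := map_tensorPow hL k
    refine ⟨isFinLocFree_ten h1 hL, ?_⟩
    rw [pow_succ, ← h2, hX.map_mul _ _ h1 hL]
    rfl

theorem lam_mul_line_cl {E L : X.Modules} (hE : FlatMod.IsFinLocFree E) (hL : FlatMod.IsFinLocFreeOfRank 1 L)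
    (k : ℕ) : LambdaOps.lam k (φ (KRR.cl X E) * φ (KRR.cl X L)) =
      LambdaOps.lam k (φ (KRR.cl X E)) * φ (KRR.cl X L) ^ k := by
  have hLf := isFinLocFree_of_rank hL
  obtain ⟨N, hN, hEN⟩ := hasExt k E hE
  obtain ⟨M, hM, hEM⟩ := hasExt k _ (isFinLocFree_ten hE hLf)
  obtain ⟨e⟩ := isExtPow_twist (E := E) (L := L) hL hEM hEN
  obtain ⟨h1, h2⟩ := map_tensorPow hX hLf k
  rw [hX.map_mul E L hE hLf, hX.map_lam k _ M (isFinLocFree_ten hE hLf) hM hEM, hX.map_lam k E N hE hN hEN, ← h2,
    hX.map_mul N _ hN h1]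
  exact congrArg φ (cl_iso e)

theorem lam_mul_line {L : K} (hL : P.IsLine L) (y : K) (k : ℕ) :
    LambdaOps.lam k (y * L) = LambdaOps.lam k y * L ^ k := by
  obtain ⟨n, M, -, hM, rfl⟩ := (hX.mem_pos_iff L).1 hL.1
  have hn : n = 1 := by exact_mod_cast (hX.aug_cl n M hM).symm.trans hL.2
  subst hn
  set ℓ := φ (KRR.cl X M)
  have hpos : ∀ e ∈ P.pos, lamSeries (e * ℓ) = PowerSeries.rescale ℓ (lamSeries e) := by
    intro e he
    obtain ⟨m, E, -, hE, rfl⟩ := (hX.mem_pos_iff e).1 he
    refine PowerSeries.ext fun j => ?_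
    rw [LamR.coeff_lamSeries, PowerSeries.coeff_rescale, LamR.coeff_lamSeries,
      lam_mul_line_cl hX (isFinLocFree_of_rank hE) hM j, mul_comm]
  obtain ⟨e, e', he, he', rfl⟩ := P.exists_sub y
  have h : lamSeries ((e - e') * ℓ) = PowerSeries.rescale ℓ (lamSeries (e - e')) := by
    refine (LamR.isUnit_lamSeries (e' * ℓ)).mul_right_cancel ?_
    rw [← LamR.lamSeries_add, ← add_mul, sub_add_cancel, hpos e he, hpos e' he', ← map_mul, ← LamR.lamSeries_add,
      sub_add_cancel]
  have hk := congrArg (PowerSeries.coeff k) h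
  rwa [LamR.coeff_lamSeries, PowerSeries.coeff_rescale, LamR.coeff_lamSeries, mul_comm (ℓ ^ k)] at hk

theorem gamma_mul_line' {L : K} (hL : P.IsLine L) (y : K) (R : ℕ) :
    gamma (R + 1) (y * L) =
      ∑ S ∈ range (R + 1), (R.choose S : K) * gamma (S + 1) y * (L ^ (S + 1) * (1 - L) ^ (R - S)) :=
  gamma_mul_line y L (lam_mul_line hX hL y) R

end Model

/-- Inverse image on models. -/
theorem exists_pull {X Y : Scheme.{u}} (f : X ⟶ Y) {KX KY : Type v} [CommRing KX] [CommRing KY]
    [LambdaOps KY] {PY : PosStructure KY}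
    (φX : SGA6.Kvb X →+ KX) {φY : SGA6.Kvb Y →+ KY} (hY : KRR.IsModel Y KY PY φY) :
    ∃ q : KY →+ KX, KRR.IsPull f φY φX q := by
  obtain ⟨s₀, hs₀⟩ := Groth.Agent.RegLib.exists_lift (P := KRR.vbP Y)
    (fun E => φX (KRR.cl X ((Scheme.Modules.pullback f).obj E))) fun {S} hS h₁ h₂ h₃ => by
      rw [← map_add]
      exact congrArg φX (cl_add (shortExact_pullback_of_isFlat (f := f) S hS (isFlat_of_isFinLocFree _ h₃))
        (isFinLocFree_pullback f _ h₁) (isFinLocFree_pullback f _ h₂) (isFinLocFree_pullback f _ h₃))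
  let e := AddEquiv.ofBijective φY hY.bijective
  refine ⟨s₀.comp e.symm.toAddMonoidHom, fun E hE => ?_⟩
  show s₀ (e.symm (e (KRR.cl _ E))) = _
  rw [e.symm_apply_apply]
  exact hs₀ E hE

end Groth.Agent.KVb
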