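import Groth.Agent.KVbLib.Pull
import Groth.Agent.ExtPowLib.Unique
import Groth.Agent.QCohLib.Exact
import Groth.Agent.PullbackMod.LocFree

/-!
# Exterior powers are preserved by inverse images
-/

set_option autoImplicit false
set_option backward.isDefEq.respectTransparency false
set_option linter.style.haveILetI false

universe u

open CategoryTheory CategoryTheory.Limits AlgebraicGeometry TopologicalSpace Opposite
open Groth.Agent.ExtSeq

noncomputable section

namespace Groth.Agent.KVb

variable {X X' : Scheme.{u}}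

/-- An isomorphism on sections. -/
def secEquiv {M N : X.Modules} (e : M ≅ N) (U : X.Opens) : Γ(M, U) ≃ₗ[Γ(X, U)] Γ(N, U) :=
  LinearEquiv.ofLinear (FlatLocus.appL e.hom U) (FlatLocus.appL e.inv U)
    (LinearMap.ext fun m => show (e.inv ≫ e.hom).app U m = m by rw [e.inv_hom_id]; rfl)
    (LinearMap.ext fun m => show (e.hom ≫ e.inv).app U m = m by rw [e.hom_inv_id]; rfl)

/-- Exterior powers are invariant under isomorphisms. -/
theorem isExtPow_iso {i : ℕ} {E E₁ L L₁ : X.Modules} (a : E ≅ E₁) (b : L ≅ L₁) (h : ExtPow.IsExtPow i E L) :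
    ExtPow.IsExtPow i E₁ L₁ := by
  obtain ⟨d⟩ := nonempty_EP h
  let α : ∀ U : X.affineOpens, ↥(⋀[Γ(X, U.1)]^i Γ(E, U.1)) ≃ₗ[Γ(X, U.1)] ↥(⋀[Γ(X, U.1)]^i Γ(E₁, U.1)) :=
    fun U => LinearEquiv.ofLinear
    (exteriorPower.map i (secEquiv a U.1).toLinearMap) (exteriorPower.map i (secEquiv a U.1).symm.toLinearMap)
    (by rw [← exteriorPower.map_comp, LinearEquiv.comp_symm, exteriorPower.map_id])
    (by rw [← exteriorPower.map_comp, LinearEquiv.symm_comp, exteriorPower.map_id])
  refine ⟨fun U => ((secEquiv b U.1).symm.trans (d.φ U)).trans (α U), fun U V h e => ?_⟩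
  change rs L₁ h (b.hom.app U.1 ((d.φ U).symm
      (exteriorPower.map i (secEquiv a U.1).symm.toLinearMap (exteriorPower.ιMulti _ i e)))) =
    b.hom.app V.1 ((d.φ V).symm
      (exteriorPower.map i (secEquiv a V.1).symm.toLinearMap (exteriorPower.ιMulti _ i fun j => rs E₁ h (e j))))
  rw [exteriorPower.map_apply_ιMulti, exteriorPower.map_apply_ιMulti, rs_app, d.comp]
  congr 4
  funext j
  exact rs_app a.inv h (e j)

/-- The inverse image of an exterior power is an exterior power. -/
theorem isExtPow_pullback (f : X' ⟶ X) {i : ℕ} {E L : X.Modules} [Coh.IsQCoh E]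
    (h : ExtPow.IsExtPow i E L) :
    ExtPow.IsExtPow i ((Scheme.Modules.pullback f).obj E) ((Scheme.Modules.pullback f).obj L) := by
  haveI := ExtPowLib.isQCoh_of_isExtPow h
  haveI := PullbackMod.isQCoh_pullback f E
  obtain ⟨L', -, h'⟩ := ExtPowLib.exists_isExtPow ((Scheme.Modules.pullback f).obj E) i
  obtain ⟨e⟩ := exists_pullIso f (nonempty_EP h).some (nonempty_EP h').some
  exact isExtPow_iso (Iso.refl _) e.symm h'

end Groth.Agent.KVb
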