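import Groth.Agent.ExtSeqLib.Class
import Groth.Agent.RegLib.KGroup
import Groth.Agent.ExtPowLib.Unique
import Groth.Agent.ModTensor.Flat
import Groth.Agent.DCohLib.TensorPerf
import Groth.Agent.DCohLib.Bridge

/-!
# The ring structure on K₀ of finite locally free modules
-/

set_option autoImplicit false
set_option backward.isDefEq.respectTransparency false
set_option linter.style.haveILetI false
set_option linter.unusedSectionVars false

universe u

open CategoryTheory CategoryTheory.Limits AlgebraicGeometry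
open Groth.Agent.DCohLib

noncomputable section

namespace Groth.Agent.KVb

variable {X : Scheme.{u}}

local notation "c" => KRR.cl X

abbrev ten (E F : X.Modules) : X.Modules := ((DCoh.tensorBi (X := X)).obj E).obj F

theorem hom_ext {G : Type*} [AddCommGroup G] {f g : SGA6.Kvb X →+ G}
    (h : ∀ E, FlatMod.IsFinLocFree E → f (c E) = g (c E)) : f = g := by
  refine QuotientAddGroup.addMonoidHom_ext _ (FreeAbelianGroup.lift_ext _ _ ?_)
  rintro ⟨E, hE⟩
  have := h E hE
  have e : c E = QuotientAddGroup.mk (FreeAbelianGroup.of ⟨E, hE⟩) := K0ResLib.clSub_of hE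
  rw [e] at this
  exact this

theorem cl_add {S : ShortComplex X.Modules} (hS : S.ShortExact) (h₁ : FlatMod.IsFinLocFree S.X₁)
    (h₂ : FlatMod.IsFinLocFree S.X₂) (h₃ : FlatMod.IsFinLocFree S.X₃) : c S.X₂ = c S.X₁ + c S.X₃ :=
  K0ResLib.clSub_add hS h₁ h₂ h₃

theorem cl_of_isZero {Z : X.Modules} (hZ : IsZero Z) : c Z = 0 := by
  have hS : (ShortComplex.mk (0 : Z ⟶ Z) (0 : Z ⟶ Z) zero_comp).ShortExact :=
    { exact := ShortComplex.exact_of_isZero_X₂ _ hZ
      mono_f := ⟨fun _ _ _ => hZ.eq_of_tgt _ _⟩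
      epi_g := ⟨fun _ _ _ => hZ.eq_of_src _ _⟩ }
  have hf : FlatMod.IsFinLocFree Z := isFinLocFree_of_isZero hZ
  have h := cl_add hS hf hf hf
  exact left_eq_add.mp h

theorem cl_iso {E F : X.Modules} (e : E ≅ F) : c E = c F := by
  by_cases hE : FlatMod.IsFinLocFree E
  · have hF := isFinLocFree_iso e hE
    obtain ⟨Z, hZ⟩ := HasZeroObject.zero (C := X.Modules)
    have hZ' : IsZero Z := hZ
    have hS : (ShortComplex.mk (0 : Z ⟶ E) e.hom zero_comp).ShortExact :=
      { exact := (ShortComplex.exact_iff_mono _ (IsZero.eq_of_src hZ' _ _)).2 (inferInstanceAs (Mono e.hom))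
        mono_f := ⟨fun _ _ _ => hZ'.eq_of_tgt _ _⟩
        epi_g := inferInstanceAs (Epi e.hom) }
    exact (cl_add hS (isFinLocFree_of_isZero hZ') hE hF).trans (by rw [cl_of_isZero hZ', zero_add])
  · have hF : ¬ FlatMod.IsFinLocFree F := fun h => hE (isFinLocFree_iso e.symm h)
    simp only [KRR.cl, KZero.clSub, dif_neg hE, dif_neg hF]

def tenCommIso (E F : X.Modules) : ten E F ≅ ten F E := Groth.Agent.ModTensor.tensComm X.sheaf E F

def tenAssocIso (A B C : X.Modules) : ten (ten A B) C ≅ ten A (ten B C) :=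
  (Groth.Agent.ModTensor.tensorAssoc X.sheaf B C).app A

theorem isFinLocFree_ten {E F : X.Modules} (hE : FlatMod.IsFinLocFree E) (hF : FlatMod.IsFinLocFree F) :
    FlatMod.IsFinLocFree (ten E F) :=
  isFinLocFree_tensor hE hF

theorem ten_cl_add {S : ShortComplex X.Modules} (hS : S.ShortExact) (h₁ : FlatMod.IsFinLocFree S.X₁)
    (h₂ : FlatMod.IsFinLocFree S.X₂) (h₃ : FlatMod.IsFinLocFree S.X₃) {G : X.Modules} (hG : FlatMod.IsFinLocFree G) :
    c (ten S.X₂ G) = c (ten S.X₁ G) + c (ten S.X₃ G) := by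
  let T : X.Modules ⥤ X.Modules := (ModSite.tensorBi X.sheaf).flip.obj G
  haveI : T.Additive := Groth.Agent.ModTensor.additive_tensorBi_flip X.sheaf G
  exact cl_add
    (ModTensor.shortExact_map_of_isFlat_X₃ X.sheaf S hS ((isFlat_iff S.X₃).1 (RegLib.isFlat_of_flf h₃)) G)
    (isFinLocFree_ten h₁ hG) (isFinLocFree_ten h₂ hG) (isFinLocFree_ten h₃ hG)

theorem exists_tenHom {G : X.Modules} (hG : FlatMod.IsFinLocFree G) :
    ∃ g : SGA6.Kvb X →+ SGA6.Kvb X, ∀ E, FlatMod.IsFinLocFree E → g (c E) = c (ten E G) :=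
  RegLib.exists_lift (fun E => c (ten E G)) fun hS h₁ h₂ h₃ => ten_cl_add hS h₁ h₂ h₃ hG

open Classical in
def tenHom (G : X.Modules) : SGA6.Kvb X →+ SGA6.Kvb X :=
  if h : FlatMod.IsFinLocFree G then (exists_tenHom h).choose else 0

theorem tenHom_cl {E G : X.Modules} (hE : FlatMod.IsFinLocFree E) (hG : FlatMod.IsFinLocFree G) :
    tenHom G (c E) = c (ten E G) := by
  rw [tenHom, dif_pos hG]
  exact (exists_tenHom hG).choose_spec E hE

theorem exists_mulH : ∃ m : SGA6.Kvb X →+ SGA6.Kvb X →+ SGA6.Kvb X,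
    ∀ G, FlatMod.IsFinLocFree G → m (c G) = tenHom G :=
  RegLib.exists_lift (fun G => tenHom (X := X) G) fun hS h₁ h₂ h₃ => hom_ext fun E hE => by
    rw [AddMonoidHom.add_apply, tenHom_cl hE h₁, tenHom_cl hE h₂, tenHom_cl hE h₃,
      cl_iso (tenCommIso E _), cl_iso (tenCommIso E _), cl_iso (tenCommIso E _)]
    exact ten_cl_add hS h₁ h₂ h₃ hE

def mulH : SGA6.Kvb X →+ SGA6.Kvb X →+ SGA6.Kvb X := exists_mulH.choose

theorem mulH_cl {E F : X.Modules} (hE : FlatMod.IsFinLocFree E) (hF : FlatMod.IsFinLocFree F) :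
    mulH (c E) (c F) = c (ten E F) := by
  rw [mulH, exists_mulH.choose_spec E hE, tenHom_cl hF hE]
  exact cl_iso (tenCommIso F E)

theorem mulH_comm (x y : SGA6.Kvb X) : mulH x y = mulH y x := by
  have : (mulH : SGA6.Kvb X →+ SGA6.Kvb X →+ SGA6.Kvb X) = mulH.flip := hom_ext fun E hE => hom_ext fun F hF => by
    rw [AddMonoidHom.flip_apply, mulH_cl hE hF, mulH_cl hF hE]
    exact cl_iso (tenCommIso E F)
  exact DFunLike.congr_fun (DFunLike.congr_fun this x) y

theorem mulH_assoc (x y z : SGA6.Kvb X) : mulH (mulH x y) z = mulH x (mulH y z) := by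
  suffices h : mulH.compr₂ (mulH (X := X)) = (AddMonoidHom.compHom.comp mulH).compl₂ mulH by
    exact DFunLike.congr_fun (DFunLike.congr_fun (DFunLike.congr_fun h x) y) z
  refine hom_ext fun A hA => hom_ext fun B hB => hom_ext fun C hC => ?_
  show mulH (mulH (c A) (c B)) (c C) = mulH (c A) (mulH (c B) (c C))
  rw [mulH_cl hA hB, mulH_cl hB hC, mulH_cl (isFinLocFree_ten hA hB) hC, mulH_cl hA (isFinLocFree_ten hB hC)]
  exact cl_iso (tenAssocIso A B C)

theorem isFinLocFree_one : FlatMod.IsFinLocFree (Coh.structureModule X) := RegLib.isFinLocFree_structure X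

theorem mulH_one (x : SGA6.Kvb X) : mulH (c (Coh.structureModule X)) x = x := by
  have : mulH (c (Coh.structureModule X)) = AddMonoidHom.id (SGA6.Kvb X) := hom_ext fun E hE => by
    rw [mulH_cl isFinLocFree_one hE, cl_iso (tenCommIso _ E)]
    exact cl_iso (tensorStructureIso E)
  exact DFunLike.congr_fun this x

/-- K₀ of finite locally free modules as a ring. -/
def KR (X : Scheme.{u}) : Type (u + 1) := SGA6.Kvb X

instance : AddCommGroup (KR X) := inferInstanceAs (AddCommGroup (SGA6.Kvb X))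

instance : CommRing (KR X) :=
  { (inferInstance : AddCommGroup (KR X)) with
    mul := fun x y => mulH (X := X) x y
    one := c (Coh.structureModule X)
    left_distrib := fun x y z => map_add (mulH (X := X) x) y z
    right_distrib := fun x y z => (DFunLike.congr_fun (map_add (mulH (X := X)) x y) z).trans (AddMonoidHom.add_apply _ _ _)
    zero_mul := fun x => (DFunLike.congr_fun (map_zero (mulH (X := X))) x).trans rfl
    mul_zero := fun x => map_zero (mulH (X := X) x)
    mul_assoc := mulH_assoc (X := X)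
    one_mul := mulH_one (X := X)
    mul_one := fun x => (mulH_comm (X := X) x _).trans (mulH_one x)
    mul_comm := mulH_comm (X := X) }

/-- The class in the ring. -/
def toKR : SGA6.Kvb X →+ KR X := AddMonoidHom.id (SGA6.Kvb X)

theorem toKR_mul (x y : SGA6.Kvb X) : toKR x * toKR y = toKR (mulH x y) := rfl

theorem toKR_one : toKR (c (Coh.structureModule X)) = 1 := rfl

theorem toKR_bijective : Function.Bijective (toKR (X := X)) := Function.bijective_id

theorem mul_cl {E F : X.Modules} (hE : FlatMod.IsFinLocFree E) (hF : FlatMod.IsFinLocFree F) :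
    toKR (c E) * toKR (c F) = toKR (c (ten E F)) := congrArg toKR (mulH_cl hE hF)

end Groth.Agent.KVb
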