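import Groth.Agent.KVbLib.LineRule
import Groth.Agent.RegLib.KMain
import Groth.Agent.RegLib.KPush
import Groth.Agent.S3762
import Groth.Agent.GenSeesawLib.ProjFibre

/-!
# The γ-filtration and the push-forward along a projective space
-/

set_option autoImplicit false
set_option backward.isDefEq.respectTransparency false
set_option linter.style.haveILetI false
set_option linter.unusedSectionVars false
set_option maxHeartbeats 1000000

universe v u

open CategoryTheory CategoryTheory.Limits AlgebraicGeometry LambdaRing Finset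
open Groth.Agent.DCohLib Groth.Agent.DCohMore.TwistOver
attribute [local instance] HasDerivedCategory.standard

noncomputable section

namespace Groth.Agent.KVb

/-- `Σ_i q(F^{k-i}) x^i`. -/
def twFil {KP KY : Type v} [CommRing KP] [CommRing KY] [LambdaOps KY] (PY : PosStructure KY) (q : KY →+* KP)
    (x : KP) (k : ℕ) : AddSubgroup KP :=
  AddSubgroup.closure {z | ∃ (i : ℕ) (a : KY), a ∈ gammaFiltration PY (k - i) ∧ z = q a * x ^ i}

section Alg

variable {KP KY : Type v} [CommRing KP] [CommRing KY] [LambdaOps KY] {PY : PosStructure KY} {q : KY →+* KP} {x : KP}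

theorem mem_twFil {k i : ℕ} {a : KY} (ha : a ∈ gammaFiltration PY (k - i)) : q a * x ^ i ∈ twFil PY q x k :=
  AddSubgroup.subset_closure ⟨i, a, ha, rfl⟩

theorem twFil_anti {m k : ℕ} (h : m ≤ k) : twFil PY q x k ≤ twFil PY q x m :=
  (AddSubgroup.closure_le _).2 fun _ ⟨_, _, ha, e⟩ => e ▸ mem_twFil (LamR.gammaFiltration_anti PY (by omega) ha)

theorem mul_mem_twFil {m k : ℕ} {u w : KP} (hu : u ∈ twFil PY q x m) (hw : w ∈ twFil PY q x k) :
    u * w ∈ twFil PY q x (m + k) := by
  induction hu using AddSubgroup.closure_induction with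
  | zero => rw [zero_mul]; exact zero_mem _
  | add _ _ _ _ h h' => rw [add_mul]; exact add_mem h h'
  | neg _ _ h => rw [neg_mul]; exact neg_mem h
  | mem y hy =>
    induction hw using AddSubgroup.closure_induction with
    | zero => rw [mul_zero]; exact zero_mem _
    | add _ _ _ _ h h' => rw [mul_add]; exact add_mem h h'
    | neg _ _ h => rw [mul_neg]; exact neg_mem h
    | mem z hz =>
      obtain ⟨i, a, ha, rfl⟩ := hy
      obtain ⟨j, b, hb, rfl⟩ := hz
      rw [mul_mul_mul_comm, ← map_mul, ← pow_add]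
      exact mem_twFil (LamR.gammaFiltration_anti PY (by omega) (LamR.mul_mem_gammaFiltration PY ha hb))

theorem mem_twFil_one : x ∈ twFil PY q x 1 := by
  simpa using mem_twFil (q := q) (x := x) (k := 1) (i := 1) (LamR.mem_gammaFiltration_zero PY 1 : (1 : KY) ∈ gammaFiltration PY (1 - 1))

theorem map_mem_twFil {k : ℕ} {a : KY} (ha : a ∈ gammaFiltration PY k) : q a ∈ twFil PY q x k := by
  simpa using mem_twFil (q := q) (x := x) (k := k) (i := 0) ha

theorem one_add_pow_mem (i : ℕ) : (1 + x) ^ i ∈ twFil PY q x 0 := by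
  induction i with
  | zero => simpa using map_mem_twFil (q := q) (x := x) (LamR.mem_gammaFiltration_zero PY 1)
  | succ i ih =>
    rw [pow_succ]
    refine mul_mem_twFil (m := 0) (k := 0) ih (add_mem ?_ (twFil_anti (Nat.zero_le 1) mem_twFil_one))
    simpa using map_mem_twFil (q := q) (x := x) (LamR.mem_gammaFiltration_zero PY 1)

/-- The iterated differences of the push-forwards of the twists. -/
theorem push_pow {g : KP →+ KY} {n : ℕ} (hg : ∀ m : ℕ, g ((1 + x) ^ m) = ((n + m).choose n : KY)) :
    ∀ (i m : ℕ), g ((1 + x) ^ m * x ^ i) = if i ≤ n then ((n + m).choose (n - i) : KY) else 0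
  | 0, m => by simpa using hg m
  | i + 1, m => by
    rw [show (1 + x) ^ m * x ^ (i + 1) = (1 + x) ^ (m + 1) * x ^ i - (1 + x) ^ m * x ^ i by ring, map_sub,
      push_pow hg i (m + 1), push_pow hg i m]
    rcases Nat.lt_trichotomy i n with h | h | h
    · obtain ⟨d, rfl⟩ : ∃ d, n = i + 1 + d := ⟨n - (i + 1), by omega⟩
      rw [if_pos h.le, if_pos h.le, if_pos (by omega), show i + 1 + d - i = d + 1 by omega,
        Nat.add_sub_cancel_left, show i + 1 + d + (m + 1) = (i + 1 + d + m) + 1 by omega,
        Nat.choose_succ_succ, Nat.cast_add, add_sub_cancel_right]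
    · subst h
      simp
    · rw [if_neg (by omega), if_neg (by omega), if_neg (by omega), sub_zero]

end Alg

theorem push_gammaFiltration (n : ℕ) (Y : Scheme.{u}) [IsNoetherian Y] [ConnectedSpace ↥Y]
    {KP : Type v} [CommRing KP] [LambdaRing.LambdaOps KP] {PP : LambdaRing.PosStructure KP}
    {φP : SGA6.Kvb (KRR.PY n Y) →+ KP} (hKP : KRR.IsModel (KRR.PY n Y) KP PP φP)
    {KY : Type v} [CommRing KY] [LambdaRing.LambdaOps KY] {PY : LambdaRing.PosStructure KY}
    {φY : SGA6.Kvb Y →+ KY} (hKY : KRR.IsModel Y KY PY φY)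
    {g : KP →+ KY} (hg : KRR.IsPushPr n Y φP φY g) (k : ℕ) {z : KP}
    (hz : z ∈ LambdaRing.gammaFiltration PP k) : g z ∈ LambdaRing.gammaFiltration PY (k - n) := by
  obtain ⟨q₀, hq⟩ := exists_pull (KRR.pr n Y) φP hKY
  let q := pullRing hKP hKY hq
  have hO : ∀ d : ℤ, FlatMod.IsFinLocFreeOfRank 1 (O n Y d) := fun d =>
    CurveLib.isFinLocFreeOfRank_one (AmpleLib.isInvertible_pullback _ (isInvertible_twist d))
  let o : ℤ → KP := fun d => φP (KRR.cl (KRR.PY n Y) (O n Y d))
  have ho0 : o 0 = 1 := by
    obtain ⟨e⟩ := nonempty_zero n Y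
    exact (congrArg φP (cl_iso e)).trans hKP.map_one
  have hoadd : ∀ a b : ℤ, o a * o b = o (a + b) := fun a b => by
    obtain ⟨e⟩ := nonempty_mul n Y (rfl : a + b = a + b)
    exact (hKP.map_mul _ _ (isFinLocFree_O n Y a) (isFinLocFree_O n Y b)).trans (congrArg φP (cl_iso e))
  have hℓ : PP.IsLine (o 1) := ⟨(hKP.mem_pos_iff _).2 ⟨1, _, le_rfl, hO 1, rfl⟩, by
    simpa using hKP.aug_cl 1 _ (hO 1)⟩
  let x : KP := o 1 - 1
  have hopow : ∀ i : ℕ, (1 + x) ^ i = o (i : ℤ) := fun i => by
    rw [show (1 : KP) + x = o 1 from add_sub_cancel 1 (o 1)]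
    induction i with
    | zero => rw [pow_zero, Nat.cast_zero, ho0]
    | succ i ih => rw [pow_succ, ih, hoadd, Nat.cast_succ]
  -- generation
  have hgen : ∀ z : KP, z ∈ AddSubgroup.closure {w | ∃ (i : ℕ) (a : KY), w = q a * (1 + x) ^ i} := by
    intro z
    let eP := AddEquiv.ofBijective φP hKP.bijective
    let A : Fin (n + 1) → (SGA6.Kvb Y →+ SGA6.Kvb (KRR.PY n Y)) := fun i =>
      eP.symm.toAddMonoidHom.comp ((AddMonoidHom.mulRight (o ((i : ℕ) : ℤ))).comp (q₀.comp φY))
    have hA : ∀ (i : Fin (n + 1)) (M : Y.Modules), FlatMod.IsFinLocFree M →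
        A i (KRR.cl Y M) = KRR.cl (KRR.PY n Y) (RegLib.pullT n Y ((i : ℕ) : ℤ) M) := by
      intro i M hM
      apply eP.injective
      show eP (eP.symm (q₀ (φY (KRR.cl Y M)) * o _)) = _
      rw [eP.apply_symm_apply, hq M hM, mul_comm]
      exact hKP.map_mul _ _ (isFinLocFree_O n Y _) (PullbackMod.isFinLocFree_pullback _ M hM)
    obtain ⟨w, rfl⟩ := hKP.bijective.2 z
    obtain ⟨v, rfl⟩ := (RegLib.bijective_twists (r := n) (S := Y) A hA).2 w
    show φP (∑ i, A i (v i)) ∈ _
    rw [map_sum]
    refine sum_mem fun i _ => AddSubgroup.subset_closure ⟨(i : ℕ), φY (v i), ?_⟩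
    rw [hopow]
    show eP (eP.symm _) = _
    rw [eP.apply_symm_apply]
    rfl
  let J := twFil PY q x
  have hJ0 : ∀ z : KP, z ∈ J 0 := fun z => by
    refine (AddSubgroup.closure_le (J 0)).2 ?_ (hgen z)
    rintro _ ⟨i, a, rfl⟩
    exact mul_mem_twFil (m := 0) (k := 0) (map_mem_twFil (LamR.mem_gammaFiltration_zero PY a)) (one_add_pow_mem i)
  have hJmul : ∀ {k : ℕ} {w : KP} (c : KP), w ∈ J k → c * w ∈ J k := fun {k w} c hw => by
    simpa using mul_mem_twFil (hJ0 c) hw
  have h1 := LamR.lam_one_pos PP
  have hline1 : ∀ i : ℕ, (1 + x) ^ i - 1 ∈ J 1 := fun i => by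
    rw [← geom_sum_mul (1 + x) i, add_sub_cancel_left]
    exact hJmul _ mem_twFil_one
  have hlineL : ∀ i : ℕ, PP.IsLine ((1 + x) ^ i) := fun i => by
    rw [show (1 : KP) + x = o 1 from add_sub_cancel 1 (o 1)]
    exact LamR.isLine_pow PP hℓ i
  let G : AddSubgroup KP :=
    { carrier := {z | ∀ s, gamma s z ∈ J s}
      zero_mem' := fun s => by
        rcases s with - | s
        · exact hJ0 _
        · rw [LamR.gamma_zero_right (Nat.succ_ne_zero s)]; exact zero_mem _
      add_mem' := fun {u w} hu hw s => by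
        rw [LamR.gamma_add]
        refine sum_mem fun i hi => ?_
        rw [mem_range] at hi
        exact twFil_anti (le_of_eq (by omega)) (mul_mem_twFil (hu i) (hw (s - i)))
      neg_mem' := fun {u} hu s => by
        induction s using Nat.strong_induction_on with
        | _ s ih =>
          rcases s with - | s
          · exact hJ0 _
          have h := LamR.gamma_add (s + 1) u (-u)
          rw [add_neg_cancel, LamR.gamma_zero_right (Nat.succ_ne_zero s), sum_range_succ', LamR.gamma_zero, one_mul,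
            Nat.sub_zero] at h
          rw [eq_neg_of_add_eq_zero_right h.symm]
          refine neg_mem (sum_mem fun i hi => ?_)
          rw [mem_range] at hi
          exact twFil_anti (le_of_eq (by omega)) (mul_mem_twFil (hu (i + 1)) (ih (s + 1 - (i + 1)) (by omega))) }
  have hline : ∀ i : ℕ, (1 + x) ^ i - 1 ∈ G := fun i s => by
    rcases s with - | - | s
    · exact hJ0 _
    · rw [zero_add, LamR.gamma_one]; exact hline1 i
    · rw [LamR.gamma_thin_sub_one' h1 (LamR.lam_line PP (hlineL i))]; exact zero_mem _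
  have hbase : ∀ (a : KY) (i : ℕ), PY.aug a = 0 → q a * (1 + x) ^ i ∈ G := by
    intro a i ha s
    rcases s with - | R
    · exact hJ0 _
    rw [gamma_mul_line' hKP (hlineL i)]
    refine sum_mem fun S hS => ?_
    rw [mem_range] at hS
    rw [mul_assoc]
    refine hJmul _ ?_
    rw [← LamR.map_gamma (isLambdaHom_pull hKP hKY hq)]
    refine twFil_anti (le_of_eq (show R + 1 = (S + 1) + (R - S) by omega))
      (mul_mem_twFil (map_mem_twFil (LamR.gamma_mem PY ha)) (hJmul _ ?_))
    generalize R - S = d
    induction d with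
    | zero => exact hJ0 _
    | succ d ih =>
      rw [pow_succ]
      refine mul_mem_twFil ih ?_
      simpa using neg_mem (hline1 i)
  have hall : ∀ z, PP.aug z = 0 → z ∈ G := by
    intro z hz
    suffices z - (PP.aug z : KP) ∈ G by rwa [hz, Int.cast_zero, sub_zero] at this
    clear hz
    have hz := hgen z
    induction hz using AddSubgroup.closure_induction with
    | zero => simpa using zero_mem G
    | add a b _ _ ha hb =>
      have := add_mem ha hb
      rw [map_add, Int.cast_add]
      convert this using 1; ring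
    | neg a _ ha =>
      have := neg_mem ha
      rw [map_neg, Int.cast_neg]
      convert this using 1; ring
    | mem w hw =>
      obtain ⟨i, a, rfl⟩ := hw
      rw [map_mul, (hlineL i).2, mul_one, show PP.aug (q a) = PY.aug a from aug_pull hKP hKY hq a]
      have := add_mem (hbase (a - (PY.aug a : KY)) i (by rw [map_sub, map_intCast, Int.cast_id, sub_self]))
        (zsmul_mem (hline i) (PY.aug a))
      convert this using 1
      rw [map_sub, map_intCast, zsmul_eq_mul]; ring
  have hle : z ∈ J k := by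
    rcases Nat.eq_zero_or_pos k with rfl | hk
    · exact hJ0 z
    rw [gammaFiltration, if_neg (by omega)] at hz
    refine (AddSubgroup.closure_le (J k)).2 ?_ hz
    rintro _ ⟨l, h1, h2, rfl⟩
    refine twFil_anti h2 ?_
    clear h2
    induction l with
    | nil => exact hJ0 _
    | cons p l ih =>
      simp only [List.map_cons, List.sum_cons, List.prod_cons]
      exact mul_mem_twFil (hall _ (h1 p List.mem_cons_self) p.1) (ih fun q hq => h1 q (List.mem_cons_of_mem _ hq))
  refine (AddSubgroup.closure_le ((gammaFiltration PY (k - n)).comap g)).2 ?_ hle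
  rintro _ ⟨i, a, ha, rfl⟩
  show g (q a * x ^ i) ∈ gammaFiltration PY (k - n)
  have h3 : g (q a * x ^ i) = g (x ^ i) * a := by
    rw [mul_comm]
    exact Groth.Agent.S3762.result n Y KP PP φP hKP KY PY φY hKY g hg q₀ hq (x ^ i) a
  rw [h3]
  have hw : ∀ m : ℕ, g ((1 + x) ^ m) = ((n + m).choose n : KY) := fun m => by
    rw [hopow]
    have hT := RegLib.push_twF hg m
    rw [hKY.map_one, zsmul_one, Int.cast_natCast, Nat.choose_symm_add.symm] at hT
    refine Eq.trans ?_ hT
    congr 1
    have := hKP.map_mul _ _ (isFinLocFree_O n Y (m : ℤ)) isFinLocFree_one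
    rw [hKP.map_one, mul_one] at this
    exact this
  have h4 := push_pow hw i 0
  rw [pow_zero, one_mul] at h4
  rw [h4]
  split_ifs with hin
  · exact LamR.smul_mem_gammaFiltration PY _ (LamR.gammaFiltration_anti PY (by omega) ha)
  · rw [zero_mul]; exact zero_mem _

end Groth.Agent.KVb
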