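import Groth.Agent.KVbLib.PullExt
import Groth.Agent.GrpOmega.Basic
import Groth.Agent.OmegaUnivLib.Compat

/-!
# Differentials along étale squares
-/

set_option autoImplicit false
set_option backward.isDefEq.respectTransparency false
set_option linter.style.haveILetI false

universe u

open CategoryTheory CategoryTheory.Limits AlgebraicGeometry TopologicalSpace Opposite

noncomputable section

namespace Groth.Agent.KVb

theorem isBaseChange_kaehler_etale (A B A' B' : Type u) [CommRing A] [CommRing B] [CommRing A'] [CommRing B']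
    [Algebra A B] [Algebra A A'] [Algebra B B'] [Algebra A' B'] [Algebra A B'] [IsScalarTower A B B']
    [IsScalarTower A A' B'] [SMulCommClass A' B B'] [Algebra.FormallyEtale B B'] [Algebra.FormallyUnramified A A'] :
    IsBaseChange B' (KaehlerDifferential.map A A' B B') := by
  have hb : IsBaseChange B' (KaehlerDifferential.map A A B B') :=
    IsBaseChange.of_equiv (KaehlerDifferential.tensorKaehlerEquivOfFormallyEtale A B B') fun x => by
      rw [KaehlerDifferential.tensorKaehlerEquivOfFormallyEtale_apply, KaehlerDifferential.mapBaseChange_tmul,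
        one_smul]
  let f := KaehlerDifferential.map A A' B' B'
  have hf : Function.Bijective f := by
    refine ⟨(injective_iff_map_eq_zero _).2 fun x hx => ?_, KaehlerDifferential.map_surjective A A' B'⟩
    obtain ⟨t, rfl⟩ := (KaehlerDifferential.exact_mapBaseChange_map A A' B' x).1 hx
    rw [Subsingleton.elim t 0, map_zero]
  have h : KaehlerDifferential.map A A' B B' =
      (f.restrictScalars B).comp (KaehlerDifferential.map A A B B') := by
    refine LinearMap.ext fun x => ?_
    have hx : x ∈ Submodule.span B (Set.range (KaehlerDifferential.D A B)) := by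
      rw [KaehlerDifferential.span_range_derivation]; trivial
    induction hx using Submodule.span_induction with
    | mem y hy =>
      obtain ⟨b, rfl⟩ := hy
      simp [f, KaehlerDifferential.map_D]
    | zero => simp only [map_zero]
    | add y z _ _ hy hz => simp only [map_add, hy, hz]
    | smul b y _ hy => rw [map_smul, map_smul, hy]
  rw [h]
  exact IsBaseChange.of_equiv (hb.equiv.trans (LinearEquiv.ofBijective f hf)) fun x => by
    simp [IsBaseChange.equiv_tmul]

/-- Differentials are unchanged along étale morphisms of source and base. -/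
theorem omega_etale {X X' S S' : Scheme.{u}} {f : X ⟶ S} {f' : X' ⟶ S'} {g : X' ⟶ X} {h : S' ⟶ S}
    [Etale g] [Etale h] [QuasiSeparated f] [QuasiSeparated f'] (w : g ≫ f = f' ≫ h) :
    Nonempty ((Scheme.Modules.pullback g).obj (Omega.sheaf f) ≅ Omega.sheaf f') := by
  have hd := OmegaUnivLib.isUniversal_dOmega f
  have hd' := OmegaUnivLib.isUniversal_dOmega f'
  obtain ⟨c, hc, -⟩ := Groth.Agent.S9370.result f f' g h w.symm _ _ hd _ _ hd'
  haveI := OmegaUnivLib.isQCoh_of_universal hd
  haveI := OmegaUnivLib.isQCoh_of_universal hd'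
  haveI := PullbackMod.isQCoh_pullback g (Omega.sheaf f)
  haveI : IsIso c := OmegaUnivLib.isIso_of_bijective_cover c fun x' => by
    obtain ⟨V, hxV, -⟩ := ExtSeq.exists_affine_nhd (x := f (g x')) (U := ⊤) trivial
    obtain ⟨W, hxW, hWV⟩ := ExtSeq.exists_affine_nhd (x := g x') (U := f ⁻¹ᵁ V.1) hxV
    have hh : h (f' x') ∈ V.1 := by
      rw [← Scheme.Hom.comp_apply, ← w, Scheme.Hom.comp_apply]; exact hxV
    obtain ⟨V', hxV', hV'V⟩ := ExtSeq.exists_affine_nhd (x := f' x') (U := h ⁻¹ᵁ V.1) hh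
    obtain ⟨W', hxW', hle⟩ := ExtSeq.exists_affine_nhd (x := x') (U := g ⁻¹ᵁ W.1 ⊓ f' ⁻¹ᵁ V'.1) ⟨hxW, hxV'⟩
    refine ⟨W'.1, W'.2, hxW', OmegaUnivLib.bijective_of_compat w hd hd' c hc V.2 W.2 V'.2 W'.2 hWV hV'V
      (hle.trans inf_le_left) (hle.trans inf_le_right) ?_⟩
    letI : Algebra Γ(S, V.1) Γ(X, W.1) := (f.appLE V.1 W.1 hWV).hom.toAlgebra
    letI : Algebra Γ(S, V.1) Γ(S', V'.1) := (h.appLE V.1 V'.1 hV'V).hom.toAlgebra
    letI : Algebra Γ(X, W.1) Γ(X', W'.1) := (g.appLE W.1 W'.1 (hle.trans inf_le_left)).hom.toAlgebra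
    letI : Algebra Γ(S', V'.1) Γ(X', W'.1) := (f'.appLE V'.1 W'.1 (hle.trans inf_le_right)).hom.toAlgebra
    letI : Algebra Γ(S, V.1) Γ(X', W'.1) :=
      ((g.appLE W.1 W'.1 (hle.trans inf_le_left)).hom.comp (f.appLE V.1 W.1 hWV).hom).toAlgebra
    haveI : IsScalarTower Γ(S, V.1) Γ(X, W.1) Γ(X', W'.1) := .of_algebraMap_eq fun _ => rfl
    haveI : IsScalarTower Γ(S, V.1) Γ(S', V'.1) Γ(X', W'.1) := .of_algebraMap_eq' (by
      show ((f.appLE V.1 W.1 hWV) ≫ g.appLE W.1 W'.1 (hle.trans inf_le_left)).hom =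
        ((h.appLE V.1 V'.1 hV'V) ≫ f'.appLE V'.1 W'.1 (hle.trans inf_le_right)).hom
      simp only [Scheme.Hom.appLE_comp_appLE, w])
    haveI : SMulCommClass Γ(S', V'.1) Γ(X, W.1) Γ(X', W'.1) :=
      ⟨fun a b c => by simp only [Algebra.smul_def]; ring⟩
    haveI : Algebra.Etale Γ(X, W.1) Γ(X', W'.1) := HasRingHomProperty.appLE @Etale g inferInstance W W' _
    haveI : Algebra.Etale Γ(S, V.1) Γ(S', V'.1) := HasRingHomProperty.appLE @Etale h inferInstance V V' _
    show IsBaseChange Γ(X', W'.1) (KaehlerDifferential.map Γ(S, V.1) Γ(S', V'.1) Γ(X, W.1) Γ(X', W'.1))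
    exact isBaseChange_kaehler_etale Γ(S, V.1) Γ(X, W.1) Γ(S', V'.1) Γ(X', W'.1)
  exact ⟨asIso c⟩

end Groth.Agent.KVb
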