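import Groth.Agent.KVbLib.Ring
import Mathlib.RingTheory.PowerSeries.Inverse

/-!
# The pre-λ-structure on K₀ of finite locally free modules
-/

set_option autoImplicit false
set_option backward.isDefEq.respectTransparency false
set_option linter.style.haveILetI false
set_option linter.unusedSectionVars false

universe u

open CategoryTheory CategoryTheory.Limits AlgebraicGeometry PowerSeries
open Groth.Agent.DCohLib

noncomputable section

namespace Groth.Agent.KVb

variable {X : Scheme.{u}}

local notation "c" => KRR.cl X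

theorem isExtPow_zero (E : X.Modules) : ExtPow.IsExtPow 0 E (Coh.structureModule X) := by
  refine ⟨fun U => (exteriorPower.zeroEquiv Γ(X, U.1) (E.val.obj (Opposite.op U.1))).symm, fun U V h e => ?_⟩
  simp only [LinearEquiv.symm_symm]
  refine (congrArg _ (exteriorPower.zeroEquiv_ιMulti e)).trans ?_
  exact (map_one (X.presheaf.map (homOfLE h).op).hom).trans (exteriorPower.zeroEquiv_ιMulti _).symm

theorem isExtPow_one (E : X.Modules) : ExtPow.IsExtPow 1 E E := by
  refine ⟨fun U => (exteriorPower.oneEquiv Γ(X, U.1) (E.val.obj (Opposite.op U.1))).symm, fun U V h e => ?_⟩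
  simp only [LinearEquiv.symm_symm]
  exact (congrArg _ (exteriorPower.oneEquiv_ιMulti e)).trans (exteriorPower.oneEquiv_ιMulti
    (fun j => E.val.map (homOfLE h).op (e j))).symm

/-- Exterior powers of finite locally free modules exist among these. -/
abbrev HasExt (X : Scheme.{u}) : Prop :=
  ∀ (i : ℕ) (E : X.Modules), FlatMod.IsFinLocFree E →
    ∃ L : X.Modules, FlatMod.IsFinLocFree L ∧ ExtPow.IsExtPow i E L

variable (hext : HasExt X)

open Classical in
def extCl (E : X.Modules) (i : ℕ) : KR X :=
  if h : FlatMod.IsFinLocFree E then toKR (c (hext i E h).choose) else if i = 0 then 1 else 0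

theorem extCl_eq {i : ℕ} {E L : X.Modules} (hE : FlatMod.IsFinLocFree E) (hL : ExtPow.IsExtPow i E L) :
    extCl hext E i = toKR (c L) := by
  rw [extCl, dif_pos hE]
  obtain ⟨e⟩ := ExtPowLib.nonempty_iso (hext i E hE).choose_spec.2 hL
  rw [cl_iso e]

theorem isFinLocFree_of_isExtPow (hext : HasExt X) {i : ℕ} {E L : X.Modules} (hE : FlatMod.IsFinLocFree E)
    (hL : ExtPow.IsExtPow i E L) : FlatMod.IsFinLocFree L := by
  obtain ⟨L', h', hL'⟩ := hext i E hE
  obtain ⟨e⟩ := ExtPowLib.nonempty_iso hL' hL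
  exact isFinLocFree_iso e h'

theorem extCl_zero (E : X.Modules) : extCl hext E 0 = 1 := by
  by_cases hE : FlatMod.IsFinLocFree E
  · rw [extCl_eq hext hE (isExtPow_zero E), toKR_one]
  · rw [extCl, dif_neg hE, if_pos rfl]

theorem extCl_one {E : X.Modules} (hE : FlatMod.IsFinLocFree E) : extCl hext E 1 = toKR (c E) :=
  extCl_eq hext hE (isExtPow_one E)

def ser (E : X.Modules) : PowerSeries (KR X) := PowerSeries.mk (extCl hext E)

theorem isUnit_ser (E : X.Modules) : IsUnit (ser hext E) := by
  rw [PowerSeries.isUnit_iff_constantCoeff, ← PowerSeries.coeff_zero_eq_constantCoeff_apply, ser,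
    PowerSeries.coeff_mk, extCl_zero]
  exact isUnit_one

theorem ser_mul {S : ShortComplex X.Modules} (hS : S.ShortExact) (h₁ : FlatMod.IsFinLocFree S.X₁)
    (h₂ : FlatMod.IsFinLocFree S.X₂) (h₃ : FlatMod.IsFinLocFree S.X₃) :
    ser hext S.X₂ = ser hext S.X₁ * ser hext S.X₃ := by
  ext n
  rw [PowerSeries.coeff_mul, Finset.Nat.sum_antidiagonal_eq_sum_range_succ_mk]
  simp only [ser, PowerSeries.coeff_mk]
  let L' := fun i => (hext i S.X₁ h₁).choose
  let L := fun i => (hext i S.X₂ h₂).choose
  let L'' := fun i => (hext i S.X₃ h₃).choose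
  have hL' := fun i => (hext i S.X₁ h₁).choose_spec
  have hL := fun i => (hext i S.X₂ h₂).choose_spec
  have hL'' := fun i => (hext i S.X₃ h₃).choose_spec
  let D : ExtSeq.Data X :=
    { S := S, hS := hS, h₁ := h₁, h₂ := h₂, h₃ := h₃, L' := L', L := L, L'' := L''
      d' := fun i => (ExtSeq.nonempty_EP (hL' i).2).some
      d := fun i => (ExtSeq.nonempty_EP (hL i).2).some
      d'' := fun i => (ExtSeq.nonempty_EP (hL'' i).2).some }
  have h := D.cl_eq (fun i => (hL' i).1) (fun i => (hL'' i).1) n (hL n).1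
  rw [extCl_eq hext h₂ (hL n).2]
  refine (congrArg toKR h).trans ((map_sum toKR _ _).trans (Finset.sum_congr rfl fun i _ => ?_))
  rw [extCl_eq hext h₁ (hL' i).2, extCl_eq hext h₃ (hL'' (n - i)).2, mul_cl (hL' i).1 (hL'' (n - i)).1]

theorem exists_lamHom : ∃ g : SGA6.Kvb X →+ Additive (PowerSeries (KR X))ˣ,
    ∀ E, FlatMod.IsFinLocFree E → g (c E) = Additive.ofMul (isUnit_ser hext E).unit :=
  RegLib.exists_lift (fun E => Additive.ofMul (isUnit_ser hext E).unit) fun hS h₁ h₂ h₃ => by
    apply Additive.toMul.injective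
    exact Units.ext (ser_mul hext hS h₁ h₂ h₃)

def lamHom : SGA6.Kvb X →+ Additive (PowerSeries (KR X))ˣ := (exists_lamHom hext).choose

/-- The series of exterior powers. -/
def lamSer (x : SGA6.Kvb X) : PowerSeries (KR X) := ((Additive.toMul (lamHom hext x) : (PowerSeries (KR X))ˣ) : PowerSeries (KR X))

theorem lamSer_cl {E : X.Modules} (hE : FlatMod.IsFinLocFree E) : lamSer hext (c E) = ser hext E := by
  rw [lamSer, lamHom, (exists_lamHom hext).choose_spec E hE]
  rfl

theorem lamSer_add (x y : SGA6.Kvb X) : lamSer hext (x + y) = lamSer hext x * lamSer hext y := by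
  simp [lamSer, map_add]

theorem lamSer_zero : lamSer hext (0 : SGA6.Kvb X) = 1 := by
  simp [lamSer]

theorem induction {p : SGA6.Kvb X → Prop} (h0 : p 0) (hcl : ∀ E, FlatMod.IsFinLocFree E → p (c E))
    (hneg : ∀ x, p x → p (-x)) (hadd : ∀ x y, p x → p y → p (x + y)) (x : SGA6.Kvb X) : p x := by
  induction x using QuotientAddGroup.induction_on with
  | H a =>
    induction a using FreeAbelianGroup.induction_on with
    | zero => exact h0
    | of E =>
      have e : c E.1 = QuotientAddGroup.mk (FreeAbelianGroup.of E) := K0ResLib.clSub_of E.2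
      exact e ▸ hcl E.1 E.2
    | neg E h => exact hneg _ h
    | add a b ha hb => exact hadd _ _ ha hb

theorem constantCoeff_lamSer (x : SGA6.Kvb X) : constantCoeff (lamSer hext x) = 1 := by
  induction x using induction with
  | h0 => rw [lamSer_zero, map_one]
  | hcl E hE => rw [lamSer_cl hext hE, ← coeff_zero_eq_constantCoeff_apply, ser, coeff_mk, extCl_zero]
  | hneg x h =>
    have := congrArg constantCoeff (lamSer_add hext x (-x))
    rw [add_neg_cancel, lamSer_zero, map_one, map_mul, h, one_mul] at this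
    exact this.symm
  | hadd x y hx hy => rw [lamSer_add, map_mul, hx, hy, one_mul]

theorem coeff_one_lamSer (x : SGA6.Kvb X) : coeff 1 (lamSer hext x) = toKR x := by
  have hadd : ∀ x y : SGA6.Kvb X,
      coeff 1 (lamSer hext (x + y)) = coeff 1 (lamSer hext x) + coeff 1 (lamSer hext y) := fun x y => by
    rw [lamSer_add, coeff_one_mul, constantCoeff_lamSer, constantCoeff_lamSer, mul_one, mul_one]
  let f : SGA6.Kvb X →+ KR X := AddMonoidHom.mk' (fun x => coeff 1 (lamSer hext x)) hadd
  have : f = toKR := hom_ext fun E hE => by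
    show coeff 1 (lamSer hext (c E)) = _
    rw [lamSer_cl hext hE, ser, coeff_mk, extCl_one hext hE]
  exact DFunLike.congr_fun this x

/-- The λ-operations. -/
def lamOp (k : ℕ) (x : SGA6.Kvb X) : SGA6.Kvb X := (coeff (R := KR X) k) (lamSer hext x)

theorem lamOp_zero (x : SGA6.Kvb X) : lamOp hext 0 x = c (Coh.structureModule X) := by
  show coeff (R := KR X) 0 (lamSer hext x) = _
  rw [coeff_zero_eq_constantCoeff_apply, constantCoeff_lamSer]
  rfl

theorem lamOp_one (x : SGA6.Kvb X) : lamOp hext 1 x = x := coeff_one_lamSer hext x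

theorem lamOp_cl {i : ℕ} {E L : X.Modules} (hE : FlatMod.IsFinLocFree E) (hL : ExtPow.IsExtPow i E L) :
    lamOp hext i (c E) = c L := by
  show coeff (R := KR X) i (lamSer hext (c E)) = _
  rw [lamSer_cl hext hE, ser, coeff_mk, extCl_eq hext hE hL]
  rfl

theorem lamOp_add (k : ℕ) (x y : SGA6.Kvb X) :
    lamOp hext k (x + y) = ∑ i ∈ Finset.range (k + 1), mulH (lamOp hext i x) (lamOp hext (k - i) y) := by
  show coeff (R := KR X) k (lamSer hext (x + y)) = _
  rw [lamSer_add, coeff_mul, Finset.Nat.sum_antidiagonal_eq_sum_range_succ_mk]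
  rfl

theorem isLambdaStructureVb : SGA6.IsLambdaStructureVb X mulH (lamOp hext) :=
  ⟨mulH_comm, mulH_assoc, mulH_one, fun _ _ hE hF => mulH_cl hE hF, fun _ _ _ hE hL => lamOp_cl hext hE hL,
    lamOp_zero hext, lamOp_one hext, lamOp_add hext⟩

end Groth.Agent.KVb
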