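import Groth.Agent.KVbLib.Rank
import Groth.Agent.ExtSeqLib.Maps

/-!
# Exterior powers of a twist by an invertible module
-/

set_option autoImplicit false
set_option backward.isDefEq.respectTransparency false
set_option linter.style.haveILetI false
set_option linter.unusedSectionVars false
set_option maxHeartbeats 1000000

universe u

open CategoryTheory CategoryTheory.Limits AlgebraicGeometry TopologicalSpace Opposite
open Groth.Agent.PullbackMod Groth.Agent.DCohLib Groth.Agent.ExtSeq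
open scoped TensorProduct

noncomputable section

namespace Groth.Agent.KVb

variable {X : Scheme.{u}}

theorem germ_smulS (M : X.Modules) {U : X.Opens} {x : X} (hx : x ∈ U) (a : Γ(X, U)) (m : Γ(M, U)) :
    M.presheaf.germ U x hx (a • m) = X.presheaf.germ U x hx a • M.presheaf.germ U x hx m :=
  PresheafOfModules.germ_smul (R := X.presheaf) M.val x U hx a m

/-- A section which is a basis of every stalk. -/
def IsGen (L : X.Modules) {U : X.Opens} (e : Γ(L, U)) : Prop :=
  ∀ (x : X) (hx : x ∈ U), Function.Bijective fun a : X.presheaf.stalk x => a • L.presheaf.germ U x hx e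

theorem isGen_rs {L : X.Modules} {U V : X.Opens} (h : V ≤ U) {e : Γ(L, U)} (he : IsGen L e) :
    IsGen L (rs L h e) := fun x hx => by
  rw [show L.presheaf.germ V x hx (rs L h e) = L.presheaf.germ U x (h hx) e from
    TopCat.Presheaf.germ_res_apply L.presheaf (homOfLE h) x hx e]
  exact he x (h hx)

theorem exists_isGen {L : X.Modules} (hL : FlatMod.IsFinLocFreeOfRank 1 L) (x : X) :
    ∃ U : X.affineOpens, x ∈ U.1 ∧ ∃ e : Γ(L, U.1), IsGen L e := by
  have hLf := isFinLocFree_of_rank hL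
  have hr := (isFinLocFreeOfRank_iff hLf 1).1 hL
  haveI := (isQCoh_and_isFP_of_isFinLocFree L hLf).1
  obtain ⟨D, hD, hxD, h⟩ := exists_free_sections hLf x
  rw [hr x] at h
  obtain ⟨q⟩ := h
  refine ⟨⟨D, hD⟩, hxD, q.symm fun _ => 1, fun y hy => ?_⟩
  letI := Module.compHom (L.presheaf.stalk y) (X.presheaf.germ D y hy).hom
  haveI := FlatLocus.isLocalizedModule_germL L hD y hy
  have hsurj : Function.Surjective
      fun a : X.presheaf.stalk y => a • L.presheaf.germ D y hy (q.symm fun _ => 1) := by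
    intro z
    obtain ⟨⟨m, s⟩, hs⟩ := IsLocalizedModule.surj (hD.primeIdealOf ⟨y, hy⟩).asIdeal.primeCompl
      (FlatLocus.germL L D y hy) z
    have hu : IsUnit (X.presheaf.germ D y hy s.1) := by
      letI : Algebra Γ(X, D) (X.presheaf.stalk y) := TopCat.Presheaf.algebra_section_stalk X.presheaf ⟨y, hy⟩
      haveI := hD.isLocalization_stalk ⟨y, hy⟩
      exact IsLocalization.map_units (X.presheaf.stalk y) s
    obtain ⟨v, hv⟩ := hu
    refine ⟨(↑v⁻¹ : X.presheaf.stalk y) * X.presheaf.germ D y hy (q m 0), ?_⟩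
    have hm : m = q m 0 • q.symm (fun _ => 1) := by
      apply q.injective
      rw [map_smul, LinearEquiv.apply_symm_apply]
      funext i
      simp [Subsingleton.elim i 0]
    show ((↑v⁻¹ : X.presheaf.stalk y) * _) • _ = z
    rw [mul_smul, ← germ_smulS, ← hm]
    calc (↑v⁻¹ : X.presheaf.stalk y) • L.presheaf.germ D y hy m
        = (↑v⁻¹ : X.presheaf.stalk y) • (X.presheaf.germ D y hy s.1 • z) := congrArg _ hs.symm
      _ = z := by rw [← hv, smul_smul, v.inv_mul, one_smul]
  refine ⟨?_, hsurj⟩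
  obtain ⟨g⟩ := hr y ▸ isFinLocFree_freeAt hLf y
  obtain ⟨a₀, ha₀⟩ := hsurj (g.symm fun _ => 1)
  intro a b hab
  have h₀ := congrArg (fun z => g z 0) ha₀
  have h₁ := congrArg (fun z => g z 0) hab
  simp only [map_smul, Pi.smul_apply, smul_eq_mul, LinearEquiv.apply_symm_apply] at h₀ h₁
  linear_combination a₀ * h₁ - (a - b) * h₀

theorem exists_ratio {L : X.Modules} {U : X.Opens} {e : Γ(L, U)} (he : IsGen L e) (e' : Γ(L, U))
    {x : X} (hx : x ∈ U) :
    ∃ V : X.affineOpens, x ∈ V.1 ∧ ∃ (h : V.1 ≤ U) (a : Γ(X, V.1)), rs L h e' = a • rs L h e := by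
  obtain ⟨α, hα⟩ := (he x hx).2 (L.presheaf.germ U x hx e')
  obtain ⟨O, hxO, a, rfl⟩ := TopCat.Presheaf.exists_germ_eq X.presheaf α
  obtain ⟨W, hW, i₁, i₂, hWeq⟩ := TopCat.Presheaf.germ_eq L.presheaf x (U := U ⊓ O) (V := U)
    ⟨hx, hxO⟩ hx (X.presheaf.map (homOfLE inf_le_right).op a • rs L inf_le_left e) e' (by
      rw [germ_smulS, TopCat.Presheaf.germ_res_apply, TopCat.Presheaf.germ_res_apply]
      exact hα)
  obtain ⟨V, hxV, hVW⟩ := exists_affine_nhd hW
  refine ⟨V, hxV, hVW.trans i₂.le, X.presheaf.map (homOfLE (hVW.trans (i₁.le.trans inf_le_right))).op a, ?_⟩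
  have h2 := congrArg (rs L hVW) hWeq.symm
  have e1 : rs L hVW (L.presheaf.map i₂.op e') = rs L (hVW.trans i₂.le) e' := rs_rs L i₂.le hVW e'
  refine e1.symm.trans (h2.trans ?_)
  refine (rs_rs L i₁.le hVW _).trans ?_
  rw [rs_smul, rs_rs]
  congr 1
  rw [← CommRingCat.comp_apply, ← X.presheaf.map_comp]
  rfl

theorem bij_of_germ (A B : X.Modules) {U : X.Opens} (G : ∀ V, V ≤ U → Γ(A, V) →+ Γ(B, V))
    (g : ∀ x : X, x ∈ U → A.presheaf.stalk x → B.presheaf.stalk x)
    (hg : ∀ V (h : V ≤ U) (x : X) (hx : x ∈ V) (a : Γ(A, V)),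
      B.presheaf.germ V x hx (G V h a) = g x (h hx) (A.presheaf.germ V x hx a))
    (hbij : ∀ x hx, Function.Bijective (g x hx)) : Function.Bijective (G U le_rfl) := by
  let FA : TopCat.Sheaf Ab.{u} X.carrier := ⟨A.presheaf, A.isSheaf⟩
  let FB : TopCat.Sheaf Ab.{u} X.carrier := ⟨B.presheaf, B.isSheaf⟩
  have hinj : ∀ V (h : V ≤ U), Function.Injective (G V h) := fun V h a b hab =>
    TopCat.Presheaf.section_ext FA V a b fun x hx => (hbij x (h hx)).1 (by
      show g x (h hx) (A.presheaf.germ V x hx a) = g x (h hx) (A.presheaf.germ V x hx b)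
      rw [← hg, ← hg, hab])
  have hnat : ∀ V W (h : V ≤ U) (h' : W ≤ V) (a : Γ(A, V)),
      rs B h' (G V h a) = G W (h'.trans h) (rs A h' a) := fun V W h h' a =>
    TopCat.Presheaf.section_ext FB W _ _ fun x hx => by
      show B.presheaf.germ W x hx _ = B.presheaf.germ W x hx _
      rw [TopCat.Presheaf.germ_res_apply, hg, hg, TopCat.Presheaf.germ_res_apply]
  refine ⟨hinj U le_rfl, fun b => ?_⟩
  have hloc : ∀ x : U, ∃ (V : X.Opens) (_ : x.1 ∈ V) (h : V ≤ U) (a : Γ(A, V)), G V h a = rs B h b := fun x => by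
    obtain ⟨α, hα⟩ := (hbij x.1 x.2).2 (B.presheaf.germ U x.1 x.2 b)
    obtain ⟨O, hxO, a, rfl⟩ := TopCat.Presheaf.exists_germ_eq A.presheaf α
    obtain ⟨W, hW, i₁, i₂, hWeq⟩ := TopCat.Presheaf.germ_eq B.presheaf x.1 (U := U ⊓ O) (V := U)
      ⟨x.2, hxO⟩ x.2 (G (U ⊓ O) inf_le_left (rs A inf_le_right a)) b (by
        rw [hg, TopCat.Presheaf.germ_res_apply]
        exact hα)
    exact ⟨W, hW, i₂.le, rs A i₁.le (rs A inf_le_right a),
      (hnat _ W inf_le_left i₁.le _).symm.trans hWeq⟩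
  choose V hV hle a ha using hloc
  obtain ⟨s, hs, -⟩ := TopCat.Sheaf.existsUnique_gluing' FA V U (fun x => homOfLE (hle x))
    (fun x hx => Opens.mem_iSup.2 ⟨⟨x, hx⟩, hV ⟨x, hx⟩⟩) a (fun x y => by
      apply hinj _ (inf_le_left.trans (hle x))
      show G _ _ (rs A inf_le_left (a x)) = G _ _ (rs A inf_le_right (a y))
      rw [← hnat _ _ (hle x) inf_le_left, ← hnat _ _ (hle y) inf_le_right, ha, ha, rs_rs, rs_rs])
  refine ⟨s, TopCat.Sheaf.eq_of_locally_eq' FB V U (fun x => homOfLE (hle x))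
    (fun x hx => Opens.mem_iSup.2 ⟨⟨x, hx⟩, hV ⟨x, hx⟩⟩) _ _ fun x => ?_⟩
  show rs B (hle x) (G U le_rfl s) = rs B (hle x) b
  rw [hnat U _ le_rfl (hle x)]
  exact (congrArg _ (hs x)).trans (ha x)

variable (E L : X.Modules)

/-- Tensoring sections with a fixed section. -/
def gLin {U : X.Opens} (e : Γ(L, U)) : Γ(E, U) →ₗ[Γ(X, U)] Γ(ten E L, U) where
  toFun z := pairS E L z e
  map_add' a b := pairS_add_left a b e
  map_smul' r a := pairS_smul_left r a e

variable {E L}

theorem bij_tmul {x : X} (ε : L.presheaf.stalk x)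
    (hε : Function.Bijective fun a : X.presheaf.stalk x => a • ε) :
    Function.Bijective fun z : E.presheaf.stalk x => stalkTensor x E L (z ⊗ₜ ε) := by
  let q : X.presheaf.stalk x ≃ₗ[X.presheaf.stalk x] L.presheaf.stalk x :=
    LinearEquiv.ofBijective (LinearMap.toSpanSingleton _ _ ε) hε
  let T : E.presheaf.stalk x ≃ₗ[X.presheaf.stalk x] (ten E L).presheaf.stalk x :=
    ((TensorProduct.rid (X.presheaf.stalk x) (E.presheaf.stalk x)).symm.trans
      (TensorProduct.congr (LinearEquiv.refl _ _) q)).trans (stalkTensor x E L)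
  convert T.bijective using 2 with z
  show stalkTensor x E L (z ⊗ₜ ε) = stalkTensor x E L
    (TensorProduct.congr (LinearEquiv.refl _ _) q ((TensorProduct.rid _ _).symm z))
  simp [q]

theorem germ_pairS {x : X} {U : X.Opens} (hx : x ∈ U) (m : Γ(E, U)) (n : Γ(L, U)) :
    (ten E L).presheaf.germ U x hx (pairS E L m n) =
      stalkTensor x E L (E.presheaf.germ U x hx m ⊗ₜ L.presheaf.germ U x hx n) :=
  (stalkTensorHom_tmul x hx m n).symm

theorem gLin_bijective {U : X.Opens} {e : Γ(L, U)} (he : IsGen L e) : Function.Bijective (gLin E L e) :=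
  by
  have h := bij_of_germ E (ten E L) (U := U)
    (fun V h => (gLin E L (rs L h e)).toAddMonoidHom)
    (fun x hx z => stalkTensor x E L (z ⊗ₜ L.presheaf.germ U x hx e))
    (fun V h x hx a => by
      show (ten E L).presheaf.germ V x hx (pairS E L a (rs L h e)) = _
      rw [germ_pairS, TopCat.Presheaf.germ_res_apply])
    (fun x hx => bij_tmul _ (he x hx))
  convert h using 2
  simp [rs]

theorem isGen_pairS {U : X.Opens} {e₁ : Γ(E, U)} {e₂ : Γ(L, U)} (h₁ : IsGen E e₁) (h₂ : IsGen L e₂) :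
    IsGen (ten E L) (pairS E L e₁ e₂) := fun x hx => by
  convert (bij_tmul (E := E) _ (h₂ x hx)).comp (h₁ x hx) using 2 with a
  rw [germ_pairS, Function.comp_apply, ← TensorProduct.smul_tmul', map_smul]

variable (L)

/-- Powers of a section. -/
def powS {U : X.Opens} (e : Γ(L, U)) : ∀ k, Γ(CohB1.tensorPow L k, U)
  | 0 => (show Γ(Coh.structureModule X, U) from (1 : Γ(X, U)))
  | k + 1 => pairS (CohB1.tensorPow L k) L (powS e k) e

theorem rs_powS {U V : X.Opens} (h : V ≤ U) (e : Γ(L, U)) :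
    ∀ k, rs (CohB1.tensorPow L k) h (powS L e k) = powS L (rs L h e) k
  | 0 => map_one (X.presheaf.map (homOfLE h).op).hom
  | k + 1 => by
    show rs (ten (CohB1.tensorPow L k) L) h (pairS _ _ (powS L e k) e) = _
    rw [rs, res_pairS]
    exact congrArg (pairS _ _ · _) (rs_powS h e k)

theorem powS_smul {U : X.Opens} (a : Γ(X, U)) (e : Γ(L, U)) :
    ∀ k, powS L (a • e) k = a ^ k • powS L e k
  | 0 => by rw [pow_zero, one_smul]; rfl
  | k + 1 => by
    show pairS _ _ (powS L (a • e) k) (a • e) = a ^ (k + 1) • pairS _ _ (powS L e k) e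
    rw [powS_smul a e k, pairS_smul_left, pairS_smul_right, smul_smul, pow_succ]

theorem isGen_powS {U : X.Opens} {e : Γ(L, U)} (he : IsGen L e) :
    ∀ k, IsGen (CohB1.tensorPow L k) (powS L e k)
  | 0 => fun x hx => by
    have key : ∀ (V : X.Opens) (h : V ≤ U) (hxV : x ∈ V) (a : Γ(X, V)),
        X.presheaf.germ V x hxV a • (CohB1.tensorPow L 0).presheaf.germ U x hx (powS L e 0) =
          (Coh.structureModule X).presheaf.germ V x hxV a := fun V h hxV a => by
      rw [← TopCat.Presheaf.germ_res_apply (CohB1.tensorPow L 0).presheaf (homOfLE h) x hxV, ← germ_smulS]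
      congr 1
      show a * X.presheaf.map (homOfLE h).op 1 = a
      rw [map_one, mul_one]
    refine ⟨fun α β hab => ?_, fun z => ?_⟩
    · obtain ⟨O, hO, a, rfl⟩ := TopCat.Presheaf.exists_germ_eq X.presheaf α
      obtain ⟨O', hO', b, rfl⟩ := TopCat.Presheaf.exists_germ_eq X.presheaf β
      rw [← TopCat.Presheaf.germ_res_apply X.presheaf (homOfLE (inf_le_left : O ⊓ U ≤ O)) x ⟨hO, hx⟩,
        ← TopCat.Presheaf.germ_res_apply X.presheaf (homOfLE (inf_le_left : O' ⊓ U ≤ O')) x ⟨hO', hx⟩] at hab ⊢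
      simp only [key _ inf_le_right] at hab
      obtain ⟨W, hW, i₁, i₂, hWeq⟩ := TopCat.Presheaf.germ_eq _ x _ _ _ _ hab
      have h1 : X.presheaf.map i₁.op (X.presheaf.map (homOfLE inf_le_left).op a) =
          X.presheaf.map i₂.op (X.presheaf.map (homOfLE inf_le_left).op b) := hWeq
      have h2 := congrArg (X.presheaf.germ W x hW) h1
      rwa [TopCat.Presheaf.germ_res_apply X.presheaf i₁, TopCat.Presheaf.germ_res_apply X.presheaf i₂] at h2
    · obtain ⟨O, hO, a, rfl⟩ := TopCat.Presheaf.exists_germ_eq (CohB1.tensorPow L 0).presheaf z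
      refine ⟨X.presheaf.germ O x hO a, ?_⟩
      show X.presheaf.germ O x hO a • _ = _
      rw [← TopCat.Presheaf.germ_res_apply X.presheaf (homOfLE (inf_le_left : O ⊓ U ≤ O)) x ⟨hO, hx⟩ a,
        key _ inf_le_right]
      exact TopCat.Presheaf.germ_res_apply (Coh.structureModule X).presheaf _ x _ a
  | k + 1 => isGen_pairS (isGen_powS he k) he

variable {L}

theorem map_pow_smul {R : Type u} [CommRing R] {M N : Type u} [AddCommGroup M] [Module R M] [AddCommGroup N]
    [Module R N] (k : ℕ) (a : R) (f : M →ₗ[R] N) (t : ↥(⋀[R]^k M)) :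
    exteriorPower.map k (a • f) t = a ^ k • exteriorPower.map k f t := by
  have h : exteriorPower.map k (a • f) = a ^ k • exteriorPower.map k f :=
    exteriorPower.linearMap_ext (AlternatingMap.ext fun v => by
      simp only [LinearMap.compAlternatingMap_apply, LinearMap.smul_apply, exteriorPower.map_apply_ιMulti]
      have := (exteriorPower.ιMulti R k (M := N)).toMultilinearMap.map_smul_univ (fun _ => a) (f ∘ v)
      simp only [Finset.prod_const, Finset.card_univ, Fintype.card_fin] at this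
      exact this)
  rw [h, LinearMap.smul_apply]

theorem map_bijective {R : Type u} [CommRing R] {M N : Type u} [AddCommGroup M] [Module R M] [AddCommGroup N]
    [Module R N] (k : ℕ) (f : M →ₗ[R] N) (hf : Function.Bijective f) :
    Function.Bijective (exteriorPower.map k f) := by
  let q := LinearEquiv.ofBijective f hf
  refine Function.bijective_iff_has_inverse.2 ⟨exteriorPower.map k q.symm.toLinearMap, fun t => ?_, fun t => ?_⟩
  · show (exteriorPower.map k q.symm.toLinearMap ∘ₗ exteriorPower.map k f) t = t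
    rw [← exteriorPower.map_comp, show q.symm.toLinearMap ∘ₗ f = LinearMap.id from
      LinearMap.ext q.symm_apply_apply, exteriorPower.map_id]
    rfl
  · show (exteriorPower.map k f ∘ₗ exteriorPower.map k q.symm.toLinearMap) t = t
    rw [← exteriorPower.map_comp, show f ∘ₗ q.symm.toLinearMap = LinearMap.id from
      LinearMap.ext q.apply_symm_apply, exteriorPower.map_id]
    rfl

section Twist

variable {M N : X.Modules} {k : ℕ} (dM : EP k (ten E L) M) (dN : EP k E N)

/-- The comparison on an open with a generator. -/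
def rMap (U : X.affineOpens) (e : Γ(L, U.1)) (he : IsGen L e) :
    Γ(M, U.1) →ₗ[Γ(X, U.1)] Γ(ten N (CohB1.tensorPow L k), U.1) :=
  gLin N _ (powS L e k) ∘ₗ (dN.φ U).symm.toLinearMap ∘ₗ
    (LinearEquiv.ofBijective _ (map_bijective k _ (gLin_bijective (E := E) he))).symm.toLinearMap ∘ₗ
      (dM.φ U).toLinearMap

theorem rMap_bijective (U : X.affineOpens) (e : Γ(L, U.1)) (he : IsGen L e) :
    Function.Bijective (rMap dM dN U e he) := by
  simp only [rMap, LinearMap.coe_comp, LinearEquiv.coe_coe]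
  exact (gLin_bijective (isGen_powS L he k)).comp (((dN.φ U).symm.bijective.comp
    (LinearEquiv.bijective _)).comp (dM.φ U).bijective)

theorem rMap_eq (U : X.affineOpens) (e : Γ(L, U.1)) (he : IsGen L e) (m : Γ(M, U.1))
    (t : ↥(⋀[Γ(X, U.1)]^k Γ(E, U.1))) (ht : exteriorPower.map k (gLin E L e) t = dM.φ U m) :
    rMap dM dN U e he m = pairS N _ ((dN.φ U).symm t) (powS L e k) := by
  show pairS N _ ((dN.φ U).symm ((LinearEquiv.ofBijective _
    (map_bijective k _ (gLin_bijective (E := E) he))).symm (dM.φ U m))) _ = _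
  rw [← ht, LinearEquiv.ofBijective_symm_apply_apply]

theorem rMap_rs {U V : X.affineOpens} (h : V.1 ≤ U.1) (e : Γ(L, U.1)) (he : IsGen L e) (m : Γ(M, U.1)) :
    rs (ten N (CohB1.tensorPow L k)) h (rMap dM dN U e he m) =
      rMap dM dN V (rs L h e) (isGen_rs h he) (rs M h m) := by
  obtain ⟨t, ht⟩ := (map_bijective k _ (gLin_bijective (E := E) he)).2 (dM.φ U m)
  rw [rMap_eq dM dN U e he m t ht, rMap_eq dM dN V (rs L h e) _ (rs M h m) (resExt k E h t) ?_, rs,
    res_pairS]
  · exact congrArg₂ (pairS N _) (dN.rs_symm h t) (rs_powS L h e k)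
  · rw [dM.apply_rs h m, ← ht]
    refine (ExtPowLib.induction_ιMulti k (P := fun t => resExt k (ten E L) h (exteriorPower.map k (gLin E L e) t) =
      exteriorPower.map k (gLin E L (rs L h e)) (resExt k E h t)) ?_ ?_ ?_ t).symm
    · simp
    · intro a b ha hb
      simp only [map_add, ha, hb]
    · intro r v
      simp only [resExt, map_smul, ExtPowLib.res_smul, ExtPowLib.res_ιMulti, exteriorPower.map_apply_ιMulti]
      congr 2
      funext j
      exact res_pairS h (v j) e

theorem rMap_smul_gen (U : X.affineOpens) (a : Γ(X, U.1)) (e : Γ(L, U.1)) (he : IsGen L e)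
    (he' : IsGen L (a • e)) (m : Γ(M, U.1)) : rMap dM dN U (a • e) he' m = rMap dM dN U e he m := by
  obtain ⟨t, ht⟩ := (map_bijective k _ (gLin_bijective (E := E) he')).2 (dM.φ U m)
  have hg : gLin E L (a • e) = a • gLin E L e := LinearMap.ext fun z => pairS_smul_right a z e
  rw [rMap_eq dM dN U _ he' m t ht, rMap_eq dM dN U e he m (a ^ k • t) (by
    rw [map_smul, ← ht, hg, map_pow_smul]), powS_smul, pairS_smul_right, map_smul, pairS_smul_left]

theorem rMap_indep (U : X.affineOpens) (e e' : Γ(L, U.1)) (he : IsGen L e) (he' : IsGen L e') (m : Γ(M, U.1)) :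
    rMap dM dN U e' he' m = rMap dM dN U e he m := by
  refine TopCat.Presheaf.section_ext (⟨_, (ten N (CohB1.tensorPow L k)).isSheaf⟩ : TopCat.Sheaf Ab.{u} X.carrier)
    U.1 _ _ fun x hx => ?_
  obtain ⟨V, hxV, h, a, ha⟩ := exists_ratio he e' hx
  have key : rs (ten N (CohB1.tensorPow L k)) h (rMap dM dN U e' he' m) = rs _ h (rMap dM dN U e he m) := by
    rw [rMap_rs, rMap_rs]
    have h2 := isGen_rs h he'
    simp only [ha] at h2 ⊢
    exact rMap_smul_gen dM dN V a _ (isGen_rs h he) h2 _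
  have h3 := congrArg ((ten N (CohB1.tensorPow L k)).presheaf.germ V.1 x hxV) key
  rwa [TopCat.Presheaf.germ_res_apply, TopCat.Presheaf.germ_res_apply] at h3

variable (hL : FlatMod.IsFinLocFreeOfRank 1 L)

include hL in
theorem exists_twistHom : ∃ ψ : M ⟶ ten N (CohB1.tensorPow L k),
    ∀ (U : X.affineOpens) (e : Γ(L, U.1)) (he : IsGen L e) (m : Γ(M, U.1)),
      ψ.app U.1 m = rMap dM dN U e he m := by
  let P := ten N (CohB1.tensorPow L k)
  let I := fun U : X.affineOpens => {W : X.affineOpens // W.1 ≤ U.1 ∧ ∃ e : Γ(L, W.1), IsGen L e}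
  have hex : ∀ (U : X.affineOpens) (m : Γ(M, U.1)), ∃ s : Γ(P, U.1),
      ∀ (W : X.affineOpens) (hW : W.1 ≤ U.1) (e : Γ(L, W.1)) (he : IsGen L e),
        rs P hW s = rMap dM dN W e he (rs M hW m) := by
    intro U m
    obtain ⟨s, hs, -⟩ := TopCat.Sheaf.existsUnique_gluing' (⟨P.presheaf, P.isSheaf⟩ : TopCat.Sheaf Ab.{u} X.carrier)
      (fun W : I U => W.1.1) U.1 (fun W => homOfLE W.2.1) (fun x hx => by
        obtain ⟨W₀, hxW₀, e, he⟩ := exists_isGen hL x
        obtain ⟨V, hxV, hV⟩ := exists_affine_nhd (x := x) (U := U.1 ⊓ W₀.1) ⟨hx, hxW₀⟩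
        exact Opens.mem_iSup.2 ⟨⟨V, hV.trans inf_le_left, rs L (hV.trans inf_le_right) e, isGen_rs _ he⟩, hxV⟩)
      (fun W => rMap dM dN W.1 W.2.2.choose W.2.2.choose_spec (rs M W.2.1 m)) (fun W W' => by
        refine ext_affine P fun Z hZ => ?_
        show rs P hZ (rs P inf_le_left _) = rs P hZ (rs P inf_le_right _)
        rw [rs_rs, rs_rs, rMap_rs dM dN (V := Z), rMap_rs dM dN (V := Z), rs_rs, rs_rs]
        exact rMap_indep dM dN Z _ _ _ _ _)
    refine ⟨s, fun W hW e he => ?_⟩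
    refine (hs ⟨W, hW, e, he⟩).trans ?_
    exact rMap_indep dM dN W e _ he _ _
  choose g hg using hex
  have hext : ∀ (U : X.affineOpens) (s t : Γ(P, U.1)), (∀ (W : X.affineOpens) (hW : W.1 ≤ U.1)
      (e : Γ(L, W.1)), IsGen L e → rs P hW s = rs P hW t) → s = t := fun U s t h =>
    ext_affine P fun Z hZ => ext_affine P fun W hW => by
      rw [rs_rs, rs_rs]
      refine TopCat.Presheaf.section_ext (⟨P.presheaf, P.isSheaf⟩ : TopCat.Sheaf Ab.{u} X.carrier)
        W.1 _ _ fun x hx => ?_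
      obtain ⟨W₀, hxW₀, e, he⟩ := exists_isGen hL x
      obtain ⟨V, hxV, hV⟩ := exists_affine_nhd (x := x) (U := W.1 ⊓ W₀.1) ⟨hx, hxW₀⟩
      have h1 := congrArg (P.presheaf.germ V.1 x hxV)
        (h V ((hV.trans inf_le_left).trans (hW.trans hZ)) _ (isGen_rs (hV.trans inf_le_right) he))
      rw [TopCat.Presheaf.germ_res_apply, TopCat.Presheaf.germ_res_apply] at h1
      exact (TopCat.Presheaf.germ_res_apply P.presheaf _ x hx s).trans
        (h1.trans (TopCat.Presheaf.germ_res_apply P.presheaf _ x hx t).symm)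
  have hadd : ∀ U a b, g U (a + b) = g U a + g U b := fun U a b => hext U _ _ fun W hW e he => by
    have h1 := hg U (a + b) W hW e he
    have h2 := hg U a W hW e he
    have h3 := hg U b W hW e he
    simp only [rs, map_add] at h1 h2 h3 ⊢
    rw [h1, h2, h3]
  obtain ⟨F, hF⟩ := ProjBundleLib.exists_hom_of_affine (E := M) (N := P)
    (fun U => AddMonoidHom.mk' (g ⟨U.1, U.2⟩) (hadd _)) (fun U hU r z => by
      show rs P (X.basicOpen_le r) (g ⟨U, hU⟩ z) = g ⟨_, hU.basicOpen r⟩ (rs M (X.basicOpen_le r) z)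
      refine hext ⟨_, hU.basicOpen r⟩ _ _ fun W hW e he => ?_
      rw [rs_rs, hg ⟨U, hU⟩ z W (hW.trans (X.basicOpen_le r)) e he, hg ⟨_, hU.basicOpen r⟩ _ W hW e he, rs_rs])
    (fun U a z => by
      show g ⟨U.1, U.2⟩ (a • z) = a • g ⟨U.1, U.2⟩ z
      refine hext ⟨U.1, U.2⟩ _ _ fun W hW e he => ?_
      rw [hg ⟨U.1, U.2⟩ (a • z) W hW e he, rs_smul, rs_smul, map_smul, hg ⟨U.1, U.2⟩ z W hW e he])
  refine ⟨F, fun U e he m => ?_⟩
  rw [hF U.1 U.2 m]
  show g U m = _
  have h := hg U m U le_rfl e he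
  simpa [rs] using h

/-- A map of modules which is bijective on a basis of affine opens is an isomorphism. -/
theorem isIso_of_bijective_small {A B : X.Modules} (a : A ⟶ B)
    (h : ∀ (x : X) (O : X.Opens), x ∈ O → ∃ W : X.affineOpens, x ∈ W.1 ∧ W.1 ≤ O ∧ Function.Bijective (a.app W.1)) :
    IsIso a := (PullbackMod.isIso_iff_stalk a).2 fun x => by
  refine ⟨(injective_iff_map_eq_zero _).2 fun z hz => ?_, fun z => ?_⟩
  · obtain ⟨O, hx, m, rfl⟩ := TopCat.Presheaf.exists_germ_eq A.presheaf z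
    rw [stalkLin_germ] at hz
    obtain ⟨V, hxV, iV, _, hV⟩ := TopCat.Presheaf.germ_eq _ x hx hx (a.app O m) 0 (by rw [hz, map_zero])
    obtain ⟨W, hxW, hWV, hb⟩ := h x V hxV
    have h0 : a.app W.1 (rs A (hWV.trans iV.le) m) = 0 := by
      rw [← rs_app a (hWV.trans iV.le) m]
      simp only [rs] at *
      rw [show homOfLE (hWV.trans iV.le) = homOfLE hWV ≫ iV from Subsingleton.elim _ _, op_comp,
        Functor.map_comp, ConcreteCategory.comp_apply, hV, map_zero, map_zero]
    have h1 := hb.1 (h0.trans (map_zero (a.app W.1).hom).symm)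
    rw [← TopCat.Presheaf.germ_res_apply _ (homOfLE (hWV.trans iV.le)) x hxW m]
    exact (congrArg _ h1).trans (map_zero _)
  · obtain ⟨O, hx, m, rfl⟩ := TopCat.Presheaf.exists_germ_eq B.presheaf z
    obtain ⟨W, hxW, hWO, hb⟩ := h x O hx
    obtain ⟨w, hw⟩ := hb.2 (rs B hWO m)
    refine ⟨A.presheaf.germ W.1 x hxW w, ?_⟩
    rw [stalkLin_germ, hw]
    exact TopCat.Presheaf.germ_res_apply _ (homOfLE hWO) x hxW m

include dM dN hL in
theorem exists_twistIso : Nonempty (M ≅ ten N (CohB1.tensorPow L k)) := by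
  obtain ⟨ψ, hψ⟩ := exists_twistHom dM dN hL
  haveI : IsIso ψ := isIso_of_bijective_small ψ fun x O hx => by
    obtain ⟨W₀, hxW₀, e, he⟩ := exists_isGen hL x
    obtain ⟨V, hxV, hV⟩ := exists_affine_nhd (x := x) (U := O ⊓ W₀.1) ⟨hx, hxW₀⟩
    refine ⟨V, hxV, hV.trans inf_le_left, ?_⟩
    have := rMap_bijective dM dN V _ (isGen_rs (hV.trans inf_le_right) he)
    convert this using 1
    exact funext fun m => hψ V _ _ m
  exact ⟨asIso ψ⟩

end Twist

/-- The exterior powers of a twist by a module of rank one. -/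
theorem isExtPow_twist {E L M N : X.Modules} (hL : FlatMod.IsFinLocFreeOfRank 1 L) {k : ℕ}
    (hM : ExtPow.IsExtPow k (CohB1.tensorMod E L) M) (hN : ExtPow.IsExtPow k E N) :
    Nonempty (M ≅ CohB1.tensorMod N (CohB1.tensorPow L k)) :=
  exists_twistIso (nonempty_EP hM).some (nonempty_EP hN).some hL

end Groth.Agent.KVb
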