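import Groth.Agent.ExtSeqLib.Maps
import Groth.Agent.PullbackMod.Sections
import Groth.Agent.PullbackMod.Hom
import Groth.Agent.PicTrivLib.Push
import Groth.Agent.DeRhamLib.BaseChange

/-!
# Inverse images of exterior powers
-/

set_option autoImplicit false
set_option backward.isDefEq.respectTransparency false
set_option linter.style.haveILetI false
set_option linter.unusedSectionVars false

universe u

open CategoryTheory CategoryTheory.Limits AlgebraicGeometry TopologicalSpace Opposite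
open Groth.Agent.PullbackMod Groth.Agent.ExtSeq

noncomputable section

namespace Groth.Agent.KVb

variable {X X' : Scheme.{u}} (f : X' ⟶ X) {i : ℕ} {E L : X.Modules}


/-- The map of exterior powers of sections induced by inverse image. -/
def resP (i : ℕ) (E : X.Modules) {U : X.Opens} {W : X'.Opens} (e : W ≤ f ⁻¹ᵁ U) :
    ↥(⋀[Γ(X, U)]^i Γ(E, U)) →+ ↥(⋀[Γ(X', W)]^i Γ((Scheme.Modules.pullback f).obj E, W)) :=
  ExtPowLib.res i (f.appLE U W e).hom (pullMap f E e) (pullMap_smul f E e)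

theorem resExt_resP {U : X.Opens} {W W₁ : X'.Opens} (e : W ≤ f ⁻¹ᵁ U) (h : W₁ ≤ W)
    (z : ↥(⋀[Γ(X, U)]^i Γ(E, U))) : resExt i ((Scheme.Modules.pullback f).obj E) h (resP f i E e z) = resP f i E (h.trans e) z := by
  refine ExtPowLib.induction_ιMulti i (P := fun z => resExt i ((Scheme.Modules.pullback f).obj E) h (resP f i E e z) = resP f i E (h.trans e) z) ?_ ?_ ?_ z
  · simp
  · intro a b ha hb
    simp only [map_add, ha, hb]
  · intro r v
    simp only [resExt, resP, ExtPowLib.res_smul, ExtPowLib.res_ιMulti]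
    congr 1
    · rw [← CommRingCat.comp_apply, Scheme.Hom.appLE_map]
    · congr 1
      funext j
      refine (pullMap_res f E e (le_refl U) h (h.trans e) (v j)).trans ?_
      simp

theorem resP_resExt {U V : X.Opens} {W : X'.Opens} (e : W ≤ f ⁻¹ᵁ V) (h : V ≤ U) (z : ↥(⋀[Γ(X, U)]^i Γ(E, U))) :
    resP f i E e (resExt i E h z) = resP f i E (e.trans (f.preimage_mono h)) z := by
  refine ExtPowLib.induction_ιMulti i (P := fun z => resP f i E e (resExt i E h z) = resP f i E (e.trans (f.preimage_mono h)) z) ?_ ?_ ?_ z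
  · simp
  · intro a b ha hb
    simp only [map_add, ha, hb]
  · intro r v
    simp only [resExt, resP, ExtPowLib.res_smul, ExtPowLib.res_ιMulti]
    congr 1
    · rw [← CommRingCat.comp_apply, Scheme.Hom.map_appLE]
    · congr 1
      funext j
      refine (pullMap_res f E (e.trans (f.preimage_mono h)) h (le_refl W) e (v j)).symm.trans ?_
      simp

theorem resP_smul {U : X.Opens} {W : X'.Opens} (e : W ≤ f ⁻¹ᵁ U) (r : Γ(X, U)) (z : ↥(⋀[Γ(X, U)]^i Γ(E, U))) :
    resP f i E e (r • z) = f.appLE U W e r • resP f i E e z :=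
  ExtPowLib.res_smul i _ _ _ r z

variable {L' : X'.Modules} (d : EP i E L) (d' : EP i ((Scheme.Modules.pullback f).obj E) L')

theorem exists_push : ∃ ψ : L ⟶ (Scheme.Modules.pushforward f).obj L', ∀ (U : X.affineOpens) (W : X'.affineOpens)
    (e : W.1 ≤ f ⁻¹ᵁ U.1) (z : Γ(L, U.1)),
      rs L' e (show Γ(L', f ⁻¹ᵁ U.1) from ψ.app U.1 z) = (d'.φ W).symm (resP f i E e (d.φ U z)) := by
  have hex : ∀ (U : X.affineOpens) (z : Γ(L, U.1)), ∃ s : Γ(L', f ⁻¹ᵁ U.1),
      ∀ (W : X'.affineOpens) (e : W.1 ≤ f ⁻¹ᵁ U.1), rs L' e s = (d'.φ W).symm (resP f i E e (d.φ U z)) := by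
    intro U z
    obtain ⟨s, hs, -⟩ := TopCat.Sheaf.existsUnique_gluing' (⟨L'.presheaf, L'.isSheaf⟩ : TopCat.Sheaf Ab.{u} X'.carrier)
      (fun W : {W : X'.affineOpens // W.1 ≤ f ⁻¹ᵁ U.1} => W.1.1) (f ⁻¹ᵁ U.1) (fun W => homOfLE W.2) (fun x hx => by
        obtain ⟨_, ⟨V, hV, rfl⟩, hxV, hVO⟩ := X'.isBasis_affineOpens.exists_subset_of_mem_open hx (f ⁻¹ᵁ U.1).2
        exact Opens.mem_iSup.2 ⟨⟨⟨V, hV⟩, hVO⟩, hxV⟩)
      (fun W => (d'.φ W.1).symm (resP f i E W.2 (d.φ U z))) (fun W W' => by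
        refine ext_affine L' fun Z hZ => ?_
        show rs L' hZ (rs L' inf_le_left _) = rs L' hZ (rs L' inf_le_right _)
        rw [rs_rs, rs_rs, d'.rs_symm, d'.rs_symm, resExt_resP, resExt_resP])
    exact ⟨s, fun W hW => hs ⟨W, hW⟩⟩
  choose g hg using hex
  have hadd : ∀ U a b, g U (a + b) = g U a + g U b := fun U a b => ext_affine L' fun W hW => by
    simp only [rs] at hg ⊢
    simp only [map_add, hg]
  obtain ⟨F, hF⟩ := ProjBundleLib.exists_hom_of_affine (E := L) (N := (Scheme.Modules.pushforward f).obj L')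
    (fun U => AddMonoidHom.mk' (g ⟨U.1, U.2⟩) (hadd _)) (fun U hU r z => by
      show rs L' (f.preimage_mono (X.basicOpen_le r)) (g ⟨U, hU⟩ z) =
        g ⟨_, hU.basicOpen r⟩ (rs L (X.basicOpen_le r) z)
      refine ext_affine L' fun W hW => ?_
      refine (rs_rs L' _ hW _).trans ((hg ⟨U, hU⟩ z W _).trans (Eq.trans ?_ (hg ⟨_, hU.basicOpen r⟩ _ W hW).symm))
      exact congrArg (d'.φ W).symm ((resP_resExt f hW (X.basicOpen_le r) _).symm.trans
        (congrArg (resP f i E hW) (d.apply_rs (U := ⟨U, hU⟩) (V := ⟨_, hU.basicOpen r⟩) (X.basicOpen_le r) z).symm)))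
    (fun U a z => by
      show g ⟨U.1, U.2⟩ (a • z) = f.app U.1 a • g ⟨U.1, U.2⟩ z
      refine ext_affine L' fun W hW => ?_
      refine (hg ⟨U.1, U.2⟩ (a • z) W hW).trans (Eq.trans ?_ (rs_smul L' hW (f.app U.1 a) _).symm)
      rw [map_smul, resP_smul, map_smul]
      exact congrArg₂ (· • ·) rfl (hg ⟨U.1, U.2⟩ z W hW).symm)
  refine ⟨F, fun U W e z => ?_⟩
  rw [hF U.1 U.2 z]
  exact hg U z W e

include d d' in
theorem exists_pullIso [Coh.IsQCoh E] [Coh.IsQCoh L] : Nonempty ((Scheme.Modules.pullback f).obj L ≅ L') := by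
  obtain ⟨ψ, hψ⟩ := exists_push f d d'
  let a : (Scheme.Modules.pullback f).obj L ⟶ L' :=
    ((Scheme.Modules.pullbackPushforwardAdjunction f).homEquiv L L').symm ψ
  have ha : ∀ (U : X.affineOpens) (W : X'.affineOpens) (e : W.1 ≤ f ⁻¹ᵁ U.1) (z : Γ(L, U.1)),
      a.app W.1 (pullMap f L e z) = (d'.φ W).symm (resP f i E e (d.φ U z)) := fun U W e z => by
    refine Eq.trans ?_ (hψ U W e z)
    show ((((Scheme.Modules.pullbackPushforwardAdjunction f).homEquiv L L').symm ψ).app W.1) _ = _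
    rw [Adjunction.homEquiv_counit]
    show (((Scheme.Modules.pullbackPushforwardAdjunction f).counit.app L').app W.1)
      (((Scheme.Modules.pullback f).map ψ).app W.1 (pullMap f L e z)) = _
    rw [pullMap_natural]
    exact PicTrivLib.counit_pullMap f _ e
  have hbij : ∀ (U : X.affineOpens) (W : X'.affineOpens), W.1 ≤ f ⁻¹ᵁ U.1 → Function.Bijective (a.app W.1) := by
    intro U W e
    letI : Algebra Γ(X, U.1) Γ(X', W.1) := (f.appLE U.1 W.1 e).hom.toAlgebra
    letI := Module.compHom Γ((Scheme.Modules.pullback f).obj L, W.1) (f.appLE U.1 W.1 e).hom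
    letI := Module.compHom Γ(((Scheme.Modules.pullback f).obj E), W.1) (f.appLE U.1 W.1 e).hom
    haveI : IsScalarTower Γ(X, U.1) Γ(X', W.1) Γ((Scheme.Modules.pullback f).obj L, W.1) :=
      .of_algebraMap_smul fun _ _ => rfl
    haveI : IsScalarTower Γ(X, U.1) Γ(X', W.1) Γ(((Scheme.Modules.pullback f).obj E), W.1) := .of_algebraMap_smul fun _ _ => rfl
    have hL := isBaseChange_pullMapL f L U.2 W.2 e
    have hE := isBaseChange_pullMapL f E U.2 W.2 e
    have hX := DeRhamLib.isBaseChange_extMap hE i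
    let θ := (hL.equiv.symm.trans ((LinearEquiv.baseChange Γ(X, U.1) Γ(X', W.1) _ _ (d.φ U)).trans hX.equiv)).trans (d'.φ W).symm
    have key : ∀ t, a.app W.1 (hL.equiv t) = θ (hL.equiv t) := by
      intro t
      show a.app W.1 (hL.equiv t) =
        (d'.φ W).symm (hX.equiv ((LinearEquiv.baseChange Γ(X, U.1) Γ(X', W.1) _ _ (d.φ U)) (hL.equiv.symm (hL.equiv t))))
      rw [LinearEquiv.symm_apply_apply]
      induction t using TensorProduct.induction_on with
      | zero => simp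
      | add p q hp hq => simp only [map_add, hp, hq]
      | tmul r z =>
        rw [IsBaseChange.equiv_tmul, LinearEquiv.baseChange_tmul, IsBaseChange.equiv_tmul,
          Scheme.Modules.Hom.app_smul, map_smul]
        exact congrArg (r • ·) (ha U W e z)
    have h : (fun w => a.app W.1 w) = fun w => θ w := funext fun w => by
      obtain ⟨t, rfl⟩ := hL.equiv.surjective w
      exact key t
    rw [show ⇑(a.app W.1) = fun w => θ w from h]
    exact θ.bijective
  have hnhd : ∀ {x : X'} {O : X'.Opens}, x ∈ O →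
      ∃ (U : X.affineOpens) (W : X'.affineOpens), x ∈ W.1 ∧ W.1 ≤ O ∧ W.1 ≤ f ⁻¹ᵁ U.1 := by
    intro x O hx
    obtain ⟨U, hU, -⟩ := exists_affine_nhd (x := f x) (U := ⊤) trivial
    obtain ⟨W, hW, hWO⟩ := exists_affine_nhd (x := x) (U := O ⊓ f ⁻¹ᵁ U.1) ⟨hx, hU⟩
    exact ⟨U, W, hW, hWO.trans inf_le_left, hWO.trans inf_le_right⟩
  haveI : IsIso a := (PullbackMod.isIso_iff_stalk a).2 fun x => by
    refine ⟨(injective_iff_map_eq_zero _).2 fun z hz => ?_, fun z => ?_⟩
    · obtain ⟨O, hx, m, rfl⟩ := TopCat.Presheaf.exists_germ_eq ((Scheme.Modules.pullback f).obj L).presheaf z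
      rw [stalkLin_germ] at hz
      obtain ⟨V, hxV, iV, _, hV⟩ := TopCat.Presheaf.germ_eq _ x hx hx (a.app O m) 0 (by rw [hz, map_zero])
      obtain ⟨U, W, hxW, hWO, hWU⟩ := hnhd hxV
      have h0 : a.app W.1 (rs _ (hWO.trans iV.le) m) = 0 := by
        rw [← rs_app a (hWO.trans iV.le) m]
        simp only [rs] at *
        rw [show homOfLE (hWO.trans iV.le) = homOfLE hWO ≫ iV from Subsingleton.elim _ _, op_comp,
          Functor.map_comp, ConcreteCategory.comp_apply, hV, map_zero, map_zero]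
      have h1 := (hbij U W hWU).1 (h0.trans (map_zero (a.app W.1).hom).symm)
      rw [← TopCat.Presheaf.germ_res_apply _ (homOfLE (hWO.trans iV.le)) x hxW m]
      exact (congrArg _ h1).trans (map_zero _)
    · obtain ⟨O, hx, m, rfl⟩ := TopCat.Presheaf.exists_germ_eq L'.presheaf z
      obtain ⟨U, W, hxW, hWO, hWU⟩ := hnhd hx
      obtain ⟨w, hw⟩ := (hbij U W hWU).2 (rs L' hWO m)
      refine ⟨((Scheme.Modules.pullback f).obj L).presheaf.germ W.1 x hxW w, ?_⟩
      rw [stalkLin_germ, hw]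
      exact TopCat.Presheaf.germ_res_apply _ (homOfLE hWO) x hxW m
  exact ⟨asIso a⟩

end Groth.Agent.KVb
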